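import Cfsg.Agent.Lib.Classical.OrthExtField.Three.Start
import Cfsg.Agent.Lib.Classical.OrthTwoRank
import Cfsg.Agent.Lib.Coprime.Generation

set_option autoImplicit false
set_option linter.unusedSectionVars false

/-!
Two images meeting in two dimensions yield an element acting trivially on the orthogonal of a line
over an extension field and moving the space into that line.
-/

namespace CfsgLib.OrthExt

open Module CfsgLib.Orth

variable {F : Type*} [Field F] [Finite F] {ι : Type} [Fintype ι] [DecidableEq ι]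
variable {K : Type*} [Field K] [Algebra F K] [Finite K] [Module K (ι → F)]
  [IsScalarTower F K (ι → F)] [FiniteDimensional F K]
variable {Q : QuadraticForm F (ι → F)} {t : K →ₗ[F] F}
  {β : (ι → F) →ₗ[K] (ι → F) →ₗ[K] K}

local notation "V" => ι → F
local notation "B" => QuadraticMap.polar (DFunLike.coe Q)

variable (hD : Dim3 Q t β)
include hD

/-- The determinant of an isometry fixing the line pointwise and acting by minus one on the middle
is minus one. -/
theorem det_eq_neg_one {u w v0 : V} (hH : Hy β u w v0) {g : Grp Q}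
    (hU : ∀ μ : K, ap g (μ • u) = μ • u)
    (hC : ∀ b : K, ∃ k : K, ap g (b • v0) = k • u - b • v0)
    (hW : ∀ ν : K, ∃ k l : K, ap g (ν • w) = ν • w + l • v0 + k • u) :
    (((g : GL ι F)) : Matrix ι ι F).det = -1 := by
  classical
  haveI := hD.finiteK
  obtain ⟨p, hp⟩ := CharP.exists F
  haveI := hp
  haveI : Fact p.Prime := ⟨CharP.char_is_prime F p⟩
  have hp3 : 3 ≤ p := by
    have h2 := (Fact.out : p.Prime).two_le
    rcases Nat.lt_or_ge p 3 with h | h
    · exfalso
      have e : p = 2 := by omega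
      subst e
      exact hD.two CharTwo.two_eq_zero
    · exact h
  haveI : Nonempty ι := Fintype.card_pos_iff.1 (by
    have := hD.card_ge; rw [Module.finrank_fintype_fun_eq_card] at this; omega)
  set φ : Module.Dual K V := (-2 / β v0 v0) • β.flip v0
  set r0 : V →ₗ[K] V := LinearMap.transvection φ v0 with hr0
  have hφ : ∀ x, φ x = -2 / β v0 v0 * β x v0 := fun x => rfl
  have hr : ∀ x, r0 x = x + φ x • v0 := fun x => rfl
  have hdet0 : LinearMap.det (r0.restrictScalars F) = -1 := by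
    rw [LinearMap.det_restrictScalars, hr0, LinearMap.transvection.det, hφ, div_mul_cancel₀ _ hH.qv,
      show (1 + -2 : K) = algebraMap F K (-1) by rw [map_neg, map_one]; norm_num,
      Algebra.norm_algebraMap, hD.rodd.neg_one_pow]
  set G := Matrix.toLin' (((g : GL ι F)) : Matrix ι ι F)
  set N := G ∘ₗ r0.restrictScalars F - LinearMap.id
  have hG : ∀ x, G x = ap g x := fun x => rfl
  have hN : ∀ x, N x = ap g (r0 x) - x := fun x => rfl
  have hNu : ∀ μ : K, N (μ • u) = 0 := fun μ => by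
    rw [hN, hr, hφ, LinearMap.map_smul₂, hH.uv, smul_zero, mul_zero, zero_smul, add_zero, hU, sub_self]
  have hNv : ∀ b : K, ∃ k : K, N (b • v0) = k • u := fun b => by
    obtain ⟨k, hk⟩ := hC b
    refine ⟨-k, ?_⟩
    have e : b • v0 + φ (b • v0) • v0 = -(b • v0) := by
      rw [hφ, LinearMap.map_smul₂, smul_eq_mul, ← add_smul, ← neg_smul]
      congr 1
      have := hH.qv
      field_simp
      ring
    rw [hN, hr, e, ← neg_one_smul F (b • v0), ap_smul, hk, neg_one_smul, neg_smul]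
    abel
  have hNw : ∀ ν : K, ∃ k l : K, N (ν • w) = l • v0 + k • u := fun ν => by
    obtain ⟨k, l, hk⟩ := hW ν
    refine ⟨k, l, ?_⟩
    rw [hN, hr, hφ, LinearMap.map_smul₂, hH.wv, smul_zero, mul_zero, zero_smul, add_zero, hk]
    abel
  have hN3 : ∀ x, N (N (N x)) = 0 := fun x => by
    obtain ⟨k, l, hk⟩ := hNw (β x u)
    obtain ⟨k', hk'⟩ := hNv (β x v0 / β v0 v0)
    obtain ⟨k'', hk''⟩ := hNv l
    rw [hH.expand hD x]
    simp only [map_add, hNu, hk, hk', hk'', zero_add, add_zero]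
  set A := LinearMap.toMatrix' N
  have hA3 : A ^ 3 = 0 := by
    rw [pow_succ, pow_two, ← LinearMap.toMatrix'_comp, ← LinearMap.toMatrix'_comp]
    have : N ∘ₗ N ∘ₗ N = 0 := LinearMap.ext hN3
    rw [LinearMap.comp_assoc, this, map_zero]
  have hAp : A ^ p = 0 := by rw [← Nat.sub_add_cancel hp3, pow_add, hA3, mul_zero]
  haveI : CharP (Matrix ι ι F) p := inferInstance
  have h1 : (1 + A) ^ p = 1 := by
    rw [add_pow_char_of_commute _ (Commute.one_left A), one_pow, hAp, add_zero]
  have hprod : 1 + A = (((g : GL ι F)) : Matrix ι ι F) * LinearMap.toMatrix' (r0.restrictScalars F) := by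
    rw [show A = LinearMap.toMatrix' (G ∘ₗ r0.restrictScalars F) - LinearMap.toMatrix' LinearMap.id
      from map_sub _ _ _, LinearMap.toMatrix'_id, add_sub_cancel, LinearMap.toMatrix'_comp,
      LinearMap.toMatrix'_toLin']
  have h2 := congrArg Matrix.det h1
  rw [Matrix.det_pow, Matrix.det_one, hprod, Matrix.det_mul, LinearMap.det_toMatrix', hdet0] at h2
  have h3 : (((((g : GL ι F)) : Matrix ι ι F).det * -1) - 1) ^ p = 0 := by
    rw [sub_pow_char, h2, one_pow, sub_self]
  have h4 := sub_eq_zero.1 (pow_eq_zero_iff (Fact.out : p.Prime).ne_zero |>.1 h3)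
  linear_combination -h4

variable {M : Subgroup (Grp Q)} (hM : Full β M)
include hM

section root

variable {u w v0 : ι → F} (hH : Hy β u w v0) {T : K → Grp Q}
  (hT : ∀ lam, IsK β u (lam • v0) (T lam))
include hH hT

variable {μ1 μ2 : K} (hμ1 : μ1 ≠ 0) (hρ : ∀ f : F, μ2 / μ1 ≠ algebraMap F K f) {g : Grp Q}
  (hg1 : ap g (μ1 • u) = μ1 • u)
include hμ1 hρ hg1

/-- An element normalising the root group centralises it. -/
theorem norm_eq (hg2 : ap g (μ2 • u) = μ2 • u) (hgΩ : g ∈ Cfsg.Omega F ⇑Q) {σ : K → K}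
    (hσ : ∀ l, g * T l = T (σ l) * g) (l : K) : σ l = l := by
  have hu0 : u ≠ 0 := fun e => one_ne_zero (α := K) (by rw [← hH.uw, e]; simp)
  have hw0 : ∀ k : K, w ≠ k • u := fun k e => one_ne_zero (α := K) (by
    rw [← hH.uw, e, map_smul, hH.uu, smul_zero])
  have hv00 : ∀ k : K, v0 ≠ k • u := fun k e => hH.qv (by
    rw [e, map_smul, LinearMap.map_smul₂, hH.uu]; simp)
  have hT0 : T 0 = 1 := ext_ap fun x => by rw [root_apply hD hM hH hT, ap_one]; simp
  set e := σ 1
  have he : e ≠ 0 := by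
    intro e0
    have h := hσ 1
    rw [show σ 1 = 0 from e0, hT0, one_mul, mul_eq_left] at h
    obtain ⟨k, hk⟩ := (root_fix hD hM hH hT one_ne_zero w).1 (by rw [h, ap_one])
    exact hw0 k hk
  have hfix : ∀ x, (∃ k : K, x = k • u) → ∃ k : K, ap g x = k • u := by
    intro x hx
    rw [← root_fix hD hM hH hT one_ne_zero] at hx
    refine (root_fix hD hM hH hT he _).1 ?_
    rw [← ap_mul, ← hσ, ap_mul, hx]
  have hfix' : ∀ x, (∃ k : K, x = k • u) → ∃ k : K, ap g⁻¹ x = k • u := by
    intro x hx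
    rw [← root_fix hD hM hH hT he] at hx
    refine (root_fix hD hM hH hT one_ne_zero _).1 (ap_inj g ?_)
    rw [← ap_mul, hσ, ap_mul, ap_ap_inv, hx]
  set A : K →ₗ[F] K := (β.flip w).restrictScalars F ∘ₗ psi u g
  have hA : ∀ μ, ap g (μ • u) = A μ • u := fun μ => by
    obtain ⟨k, hk⟩ := hfix _ ⟨μ, rfl⟩
    rw [hk, show A μ = β (ap g (μ • u)) w from rfl, hk, LinearMap.map_smul₂, hH.uw, smul_eq_mul,
      mul_one]
  have hperp : ∀ x, β x u = 0 → β (ap g x) u = 0 := fun x hx => hD.beta_zero_iff.2 fun μ => by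
    obtain ⟨k, hk⟩ := hfix' _ ⟨μ, rfl⟩
    rw [ap_b_left, hk, hD.b_smul', hx, mul_zero, map_zero]
  have hbu : ∀ b : K, β (b • v0) u = 0 := fun b => by
    rw [LinearMap.map_smul₂, hD.symm, hH.uv, smul_zero]
  set C : K →ₗ[F] K := LinearMap.mulRight F (β v0 v0)⁻¹ ∘ₗ Pairing β v0 v0 g
  have hC : ∀ b, ap g (b • v0) = β (ap g (b • v0)) w • u + C b • v0 := fun b => by
    conv_lhs => rw [hH.perp hD (hperp _ (hbu b)), div_eq_mul_inv]
    rfl
  have rel : ∀ l b, A (l * b * β v0 v0) = σ l * β v0 v0 * C b := by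
    intro l b
    have e := congrArg (fun s => ap s (b • v0)) (hσ l)
    simp only [ap_mul] at e
    rw [root_apply hD hM hH hT, root_apply hD hM hH hT, hperp _ (hbu b), hbu b] at e
    simp only [zero_mul, mul_zero, zero_smul, add_zero, ap_sub, hA, LinearMap.map_smul₂,
      smul_eq_mul] at e
    rw [sub_right_inj] at e
    have e' := smul_left_injective K hu0 e
    have hc : β (ap g (b • v0)) v0 = C b * β v0 v0 := by
      show _ = _ * (β v0 v0)⁻¹ * _
      rw [inv_mul_cancel_right₀ hH.qv]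
      rfl
    rw [mul_assoc l b, e', hc]
    ring
  have rel' : ∀ l ν, A (l * ν) = σ l / e * A ν := fun l ν => by
    have r1 := rel l (ν / β v0 v0)
    have r2 := rel 1 (ν / β v0 v0)
    have := hH.qv
    rw [show l * (ν / β v0 v0) * β v0 v0 = l * ν by field_simp] at r1
    rw [show 1 * (ν / β v0 v0) * β v0 v0 = ν by field_simp, show σ 1 = e from rfl] at r2
    rw [r1, r2]
    field_simp
  have hA1 : A μ1 = μ1 := smul_left_injective K hu0 ((hA μ1).symm.trans hg1)
  have hA2 : A μ2 = μ2 := smul_left_injective K hu0 ((hA μ2).symm.trans hg2)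
  let S : Submodule F K :=
    { carrier := {k | A (k * μ1) = k * μ1}
      add_mem' := fun {k l} (hk : A (k * μ1) = k * μ1) (hl : A (l * μ1) = l * μ1) => by
        show A ((k + l) * μ1) = _
        rw [add_mul, map_add, hk, hl]
      zero_mem' := by show A (0 * μ1) = _; rw [zero_mul, map_zero]
      smul_mem' := fun f k (hk : A (k * μ1) = k * μ1) => by
        show A ((f • k) * μ1) = _
        rw [smul_mul_assoc, map_smul, hk] }
  have hτ : ∀ k ∈ S, σ k / e = k := fun k hk => by
    have h := rel' k μ1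
    rw [show A (k * μ1) = k * μ1 from hk, hA1] at h
    exact (mul_right_cancel₀ hμ1 h).symm
  have hS := hD.eq_top_of_mem (S := S) (show A (1 * μ1) = 1 * μ1 by rwa [one_mul])
    (fun k l hk hl => show A (k * l * μ1) = k * l * μ1 by
      rw [mul_assoc, rel', show A (l * μ1) = l * μ1 from hl, hτ k hk])
    (ρ := μ2 / μ1) (show A (μ2 / μ1 * μ1) = μ2 / μ1 * μ1 by rwa [div_mul_cancel₀ _ hμ1]) hρ
  have hU : ∀ μ : K, ap g (μ • u) = μ • u := fun μ => by
    rw [hA, ← div_mul_cancel₀ μ hμ1]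
    exact congrArg (· • u) (hS (μ / μ1))
  have hAid : ∀ μ, A μ = μ := fun μ => smul_left_injective K hu0 ((hA μ).symm.trans (hU μ))
  have hCb : ∀ b, C b = b / e := fun b => by
    have r := rel 1 b
    rw [hAid, show σ 1 = e from rfl] at r
    have := hH.qv
    field_simp at r ⊢
    linear_combination -r
  have hσe : σ l = l * e := by
    have h := hτ l (hS l)
    rwa [div_eq_iff he] at h
  have hee : e * e = 1 := by
    have hδ : β v0 v0 = β v0 v0 / (e * e) := hD.t_ext fun b => by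
      have h := ap_b g (b • v0) ((1 : K) • v0)
      rw [one_smul, hD.b_smul, ← hD.spec] at h
      rw [← h]
      congr 1
      obtain ⟨k, hk⟩ : ∃ k, ap g (b • v0) = k • u + (b / e) • v0 := ⟨_, (hC b).trans (by rw [hCb])⟩
      obtain ⟨k', hk'⟩ : ∃ k', ap g v0 = k' • u + (1 / e) • v0 :=
        ⟨_, by conv_lhs => rw [← one_smul K v0, hC 1, hCb]⟩
      rw [hk, hk']
      simp [hH.uu, hH.uv, hD.symm v0 u]
      field_simp
    have := hH.qv
    field_simp at hδ
    linear_combination hδ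
  rcases mul_self_eq_one_iff.1 hee with h | h
  · rw [hσe, h, mul_one]
  exfalso
  have hd := det_eq_neg_one hD hH (g := g) hU (fun b => ⟨β (ap g (b • v0)) w, by
      rw [sub_eq_add_neg, ← neg_smul]
      conv_lhs => rw [hC b, hCb, h]
      rw [div_neg, div_one]⟩)
    fun ν => ⟨β (ap g (ν • w)) w, β (ap g (ν • w)) v0 / β v0 v0, by
      have hu' : β (ap g (ν • w)) u = ν := hD.t_ext fun μ => by
        rw [← hD.b_smul', ← hU μ, ap_b, hD.b_smul', LinearMap.map_smul₂, hD.symm w u, hH.uw,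
          smul_eq_mul, mul_one]
      conv_lhs => rw [hH.expand hD (ap g (ν • w)), hu']
      abel⟩
  rw [TwoRank.det_omega hgΩ] at hd
  exact hD.two (by linear_combination hd)

end root

/-- Two images meeting in two dimensions give an element moving into a line. -/
theorem exists_alt (hΩ : M ≤ Cfsg.Omega F ⇑Q) {u u' : V} {g : Grp Q} (hp : Pair β M u u' g)
    (hk : 2 ≤ finrank F (Lsp (K := K) u u' g)) : ∃ c ∈ M, IsAlt β u c := by
  classical
  by_contra hcon
  have hno : ∀ c ∈ M, ¬ IsAlt β u c := fun c hc hi => hcon ⟨c, hc, hi⟩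
  obtain ⟨w, v0, hH⟩ := hD.exists_hy hp.sing hp.ne
  choose T hT using fun lam : K => hD.exists_isK hp.sing (v := lam • v0) (by
    rw [map_smul, hH.uv, smul_zero])
  have hu0 := hp.ne
  have hw0 : ∀ k : K, w ≠ k • u := fun k e => one_ne_zero (α := K) (by
    rw [← hH.uw, e, map_smul, hH.uu, smul_zero])
  -- two fixed scalars
  obtain ⟨κ1, hκ1, hκ10⟩ := Submodule.exists_mem_ne_zero_of_ne_bot
    (Submodule.one_le_finrank_iff.1 (show 1 ≤ finrank F (Lsp (K := K) u u' g) by omega))
  obtain ⟨κ2, hκ2, hκ12⟩ : ∃ κ2 ∈ Lsp (K := K) u u' g, κ2 ∉ Submodule.span F {κ1} := by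
    by_contra hc
    push Not at hc
    have := (Submodule.finrank_mono hc).trans (finrank_span_singleton (K := F) hκ10).le
    omega
  obtain ⟨μ1, hm1⟩ := mem_lsp.1 hκ1
  obtain ⟨μ2, hm2⟩ := mem_lsp.1 hκ2
  have hμ1 : μ1 ≠ 0 := fun e => hκ10 ((smul_eq_zero.1 (ap_inj g
    (hm1.symm.trans (by rw [e, zero_smul, ap_zero])))).resolve_right hp.ne')
  have hρ : ∀ f : F, μ2 / μ1 ≠ algebraMap F K f := fun f e => hκ12 (Submodule.mem_span_singleton.2
    ⟨f, smul_left_injective K hp.ne' (ap_inj g (by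
      simp only [smul_assoc, ap_smul, ← hm1, ← hm2]
      rw [← smul_assoc, Algebra.smul_def, ← e, div_mul_cancel₀ _ hμ1]))⟩)
  -- the root group
  have hTadd : ∀ a b, T a * T b = T (a + b) := fun a b => by
    have h := isK_mul hD.toExt (hT a) (hT b)
    rw [← add_smul] at h
    exact isK_unique hD h (hT _)
  have hT0 : T 0 = 1 := mul_eq_left.1 (show T 0 * T 0 = T 0 by rw [hTadd, add_zero])
  have hTinj : Function.Injective T := fun a b e => by
    by_contra hne
    have h1 : T (a - b) = 1 := by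
      rw [sub_eq_add_neg, ← hTadd, e, hTadd, add_neg_cancel, hT0]
    obtain ⟨k, hk⟩ := (root_fix hD hM hH hT (sub_ne_zero.2 hne) w).1 (by rw [h1, ap_one])
    exact hw0 k hk
  let G : Subgroup (Grp Q) :=
    { carrier := {s | s ∈ M ∧ ap s (μ1 • u) = μ1 • u ∧ ap s (μ2 • u) = μ2 • u}
      one_mem' := ⟨M.one_mem, ap_one _, ap_one _⟩
      mul_mem' := fun {a b} ha hb => ⟨M.mul_mem ha.1 hb.1, by rw [ap_mul, hb.2.1, ha.2.1],
        by rw [ap_mul, hb.2.2, ha.2.2]⟩
      inv_mem' := fun {a} ha => ⟨M.inv_mem ha.1, ap_inj a (by rw [ap_ap_inv, ha.2.1]),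
        ap_inj a (by rw [ap_ap_inv, ha.2.2])⟩ }
  have hTG : ∀ l, T l ∈ G := fun l =>
    ⟨(hM.over hD).mem (hT l), siegel_fix_line hD.toExt (hT l) _, siegel_fix_line hD.toExt (hT l) _⟩
  let R : Subgroup G :=
    { carrier := {s | ∃ l, (s : Grp Q) = T l}
      one_mem' := ⟨0, hT0.symm⟩
      mul_mem' := fun {a b} ⟨i, hi⟩ ⟨j, hj⟩ => ⟨i + j, by rw [Subgroup.coe_mul, hi, hj, hTadd]⟩
      inv_mem' := fun {a} ⟨i, hi⟩ => ⟨-i, by
        rw [Subgroup.coe_inv, hi, inv_eq_iff_mul_eq_one, hTadd, add_neg_cancel, hT0]⟩ }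
  have hR : ∀ {s : G}, s ∈ R ↔ ∃ l, (s : Grp Q) = T l := Iff.rfl
  have hcommR : IsMulCommutative R := ⟨⟨fun a b => by
    obtain ⟨i, hi⟩ := hR.1 a.2
    obtain ⟨j, hj⟩ := hR.1 b.2
    refine Subtype.ext (Subtype.ext ?_)
    show ((a : G) : Grp Q) * ((b : G) : Grp Q) = _ * _
    rw [hi, hj, hTadd, hTadd, add_comm]⟩⟩
  obtain ⟨p, hchar⟩ := CharP.exists F
  haveI := hchar
  haveI : Fact p.Prime := ⟨CharP.char_is_prime F p⟩
  haveI : CharP K p := charP_of_injective_algebraMap (algebraMap F K).injective p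
  have hTpow : ∀ (n : ℕ) l, T l ^ n = T (n * l) := fun n l => by
    induction n with
    | zero => rw [pow_zero, Nat.cast_zero, zero_mul, hT0]
    | succ n ih => rw [pow_succ, ih, hTadd, Nat.cast_succ, add_mul, one_mul]
  have hexp : ∀ s ∈ R, s ^ p = 1 := fun s hs => by
    obtain ⟨l, hl⟩ := hR.1 hs
    refine Subtype.ext ?_
    rw [Subgroup.coe_pow, hl, hTpow, CharP.cast_eq_zero, zero_mul, hT0, Subgroup.coe_one]
  have hcardR : Nat.card R = Nat.card K := (Nat.card_congr (Equiv.ofBijective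
    (fun l : K => (⟨⟨T l, hTG l⟩, l, rfl⟩ : R))
    ⟨fun a b e => hTinj (congrArg (fun s : R => ((s : G) : Grp Q)) e), fun s => by
      obtain ⟨l, hl⟩ := hR.1 s.2
      exact ⟨l, Subtype.ext (Subtype.ext hl.symm)⟩⟩)).symm
  have hq2 : 2 ≤ Nat.card F := Finite.one_lt_card
  have hKq : Nat.card K = Nat.card F ^ finrank F K := Module.natCard_eq_pow_finrank
  have hpq : p ≤ Nat.card F := by
    letI : Fintype F := Fintype.ofFinite F
    obtain ⟨n, -, hn⟩ := FiniteField.card F p
    rw [Nat.card_eq_fintype_card, hn]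
    exact Nat.le_self_pow n.2.ne' p
  have h5 := hD.three
  -- the normaliser
  have hnorm : ∀ s : G, s ∈ Subgroup.normalizer (R : Set G) → s ∈ R := by
    intro s hs
    choose σ hσ using fun l => hR.1 ((Subgroup.mem_normalizer_iff.1 hs ⟨T l, hTG l⟩).1 ⟨l, rfl⟩)
    have hσ' : ∀ l, (s : Grp Q) * T l = T (σ l) * s := fun l => by
      rw [← hσ l]
      simp
    have hid := norm_eq hD hM hH hT hμ1 hρ s.2.2.1 s.2.2.2 (hΩ s.2.1) hσ'
    have h2 : ∀ l, (s : Grp Q) * T l = T l * s := fun l => by rw [hσ', hid]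
    exact hR.2 (cent_mem hD hM hH hT hμ1 hρ s.2.2.1 s.2.1 hno (l1 := 1) (l2 := μ2 / μ1)
      one_ne_zero (by simpa using hρ) (h2 1) (h2 _))
  -- the root group is a Sylow subgroup
  have hRp : IsPGroup p R := fun s => ⟨1, Subtype.ext (by
    rw [pow_one, Subgroup.coe_pow, hexp _ s.2]; rfl)⟩
  obtain ⟨P, hRP⟩ := hRp.exists_le_sylow
  have hPR : (P : Subgroup G) = R := by
    by_contra hne
    haveI := P.2.isNilpotent
    have hlt : R.subgroupOf P < ⊤ := lt_top_iff_ne_top.2 fun h =>
      hne (le_antisymm (Subgroup.subgroupOf_eq_top.1 h) hRP)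
    have hlt2 := Group.normalizerCondition_of_isNilpotent (R.subgroupOf P) hlt
    refine hlt2.not_ge fun x hx => ?_
    refine hnorm _ (Subgroup.mem_normalizer_iff.2 fun y => ?_)
    constructor
    · intro hy
      exact (Subgroup.mem_normalizer_iff.1 hx ⟨y, hRP hy⟩).1 hy
    · intro hy
      have hyP : y ∈ (P : Subgroup G) := by
        have h := (P : Subgroup G).mul_mem ((P : Subgroup G).mul_mem
          ((P : Subgroup G).inv_mem x.2) (hRP hy)) x.2
        simpa [mul_assoc] using h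
      exact (Subgroup.mem_normalizer_iff.1 hx ⟨y, hyP⟩).2 hy
  have hPc : Subgroup.normalizer ((P : Subgroup G) : Set G) ≤
      Subgroup.centralizer ((P : Subgroup G) : Set G) := by
    rw [hPR]
    exact fun s hs r hr => congrArg Subtype.val (mul_comm' (⟨r, hr⟩ : R) ⟨s, hnorm s hs⟩)
  set N0 := (MonoidHom.transferSylow P hPc).ker
  have hc := MonoidHom.ker_transferSylow_isComplement' P hPc
  have hcop : (Nat.card R).Coprime (Nat.card N0) := by
    obtain ⟨n, hn⟩ := hRp.exists_card_eq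
    rw [hn]
    exact Nat.Coprime.pow_left _ ((Fact.out : p.Prime).coprime_iff_not_dvd.2
      (MonoidHom.not_dvd_card_ker_transferSylow P hPc))
  have hN0 : N0 ≤ ⊥ := by
    refine CfsgLib.Coprime.le_of_hyperplane_centralizer_le (p := p) hcommR hexp ?_ ?_ hcop ?_
    · rw [hcardR, hKq]
      calc p ^ 2 ≤ Nat.card F ^ 2 := Nat.pow_le_pow_left hpq 2
        _ ≤ _ := Nat.pow_le_pow_right (by omega) (by omega)
    · rw [Subgroup.normalizer_eq_top]; exact le_top
    intro S hS hidx
    -- two elements with independent parameters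
    obtain ⟨a, haS, ha0, b, hbS, hab⟩ : ∃ a, (⟨T a, hTG a⟩ : G) ∈ S ∧ a ≠ 0 ∧
        ∃ b, (⟨T b, hTG b⟩ : G) ∈ S ∧ ∀ f : F, b / a ≠ algebraMap F K f := by
      have hcard : Nat.card R ≤ p * Nat.card S := by
        rw [← (S.subgroupOf R).index_mul_card,
          Nat.card_congr (Subgroup.subgroupOfEquivOfLe hS).toEquiv]
        exact Nat.mul_le_mul_right _ hidx
      have hbig : Nat.card F < Nat.card S := by
        by_contra hcn
        have h1 : Nat.card F ^ 3 ≤ Nat.card F ^ finrank F K := Nat.pow_le_pow_right (by omega) h5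
        have h2 : p * Nat.card S ≤ Nat.card F * Nat.card F := Nat.mul_le_mul hpq (not_lt.1 hcn)
        have h3 : Nat.card F ^ 2 < Nat.card F ^ 3 := Nat.pow_lt_pow_right hq2 (by norm_num)
        rw [hcardR, hKq] at hcard
        rw [pow_two] at h3
        omega
      choose par hpar using fun s : S => hR.1 (hS s.2)
      have hpar' : ∀ s : S, (⟨T (par s), hTG _⟩ : G) ∈ S := fun s => by
        have : (⟨T (par s), hTG _⟩ : G) = (s : G) := Subtype.ext (hpar s).symm
        rw [this]; exact s.2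
      have hinj : Function.Injective par := fun x y e =>
        Subtype.ext (Subtype.ext (by rw [hpar x, hpar y, e]))
      obtain ⟨sa, ha⟩ : ∃ s : S, par s ≠ 0 := by
        by_contra hc'
        push Not at hc'
        have : Nat.card S ≤ 1 := Finite.card_le_one_iff_subsingleton.2
          ⟨fun x y => hinj ((hc' x).trans (hc' y).symm)⟩
        omega
      refine ⟨par sa, hpar' sa, ha, ?_⟩
      by_contra hc'
      push Not at hc'
      choose fs hfs using fun s : S => hc' (par s) (hpar' s)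
      have := Nat.card_le_card_of_injective fs fun x y e => hinj (by
        have h := (hfs x).trans ((congrArg (algebraMap F K) e).trans (hfs y).symm)
        field_simp at h
        exact h)
      omega
    intro s hs
    obtain ⟨hsN, hsC⟩ := Subgroup.mem_inf.1 hs
    have h2 : ∀ l, (⟨T l, hTG l⟩ : G) ∈ S → (s : Grp Q) * T l = T l * s := fun l hl =>
      (congrArg Subtype.val (hsC _ hl)).symm
    have hsR : s ∈ R := hR.2 (cent_mem hD hM hH hT hμ1 hρ s.2.2.1 s.2.1 hno ha0 hab (h2 _ haS)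
      (h2 _ hbS))
    exact (Subgroup.disjoint_def.1 hc.disjoint) hsN (hPR ▸ hsR) ▸ Subgroup.one_mem _
  have hRtop : R = ⊤ := by
    have h := hc.sup_eq_top
    rwa [show (MonoidHom.transferSylow P hPc).ker = ⊥ from le_bot_iff.1 hN0, bot_sup_eq, hPR] at h
  -- a root element of the other image
  obtain ⟨w', v', hH'⟩ := hD.exists_hy hp.sing' hp.ne'
  obtain ⟨s, hs⟩ := hD.exists_isK hp.sing' (v := v') hH'.uv
  have hfixU : ∀ ν : K, ap (g * s * g⁻¹) (ap g (ν • u')) = ap g (ν • u') := fun ν => by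
    rw [ap_mul, ap_mul, ap_inv_ap, siegel_fix_line hD.toExt hs]
  have hmem : g * s * g⁻¹ ∈ G :=
    ⟨M.mul_mem (M.mul_mem hp.mem ((hM.over hD).mem hs)) (M.inv_mem hp.mem),
      by rw [hm1]; exact hfixU κ1, by rw [hm2]; exact hfixU κ2⟩
  obtain ⟨l, hl⟩ := hR.1 (show (⟨_, hmem⟩ : G) ∈ R by rw [hRtop]; trivial)
  have hl' : g * s * g⁻¹ = T l := hl
  by_cases hl0 : l = 0
  · rw [hl0, hT0, conj_eq_one_iff] at hl'
    have h := hs.2.2 w'
    rw [hl', ap_one, hD.symm w' u', hH'.uw] at h
    have h' := congrArg (fun x => β x v') h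
    simp [hH'.uv, hH'.wv] at h'
    exact hH'.qv h'.symm
  · obtain ⟨ν, hν⟩ := hp.moved
    obtain ⟨k, hk⟩ := (root_fix hD hM hH hT hl0 (ap g (ν • u'))).1 (hl' ▸ hfixU ν)
    exact hν (mem_lsp.2 ⟨k, hk.symm⟩)

end CfsgLib.OrthExt
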