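import Cfsg.Agent.Lib.Classical.OrthExtField.Spread

set_option autoImplicit false
set_option linter.unusedSectionVars false

/-!
Three-dimensional spaces over an extension field of odd degree: frames, half-turns and transitivity
on singular vectors up to a scalar of the base field.
-/

namespace CfsgLib.OrthExt

open Module CfsgLib.Orth

variable {F : Type*} [Field F] [Finite F] {ι : Type} [Fintype ι] [DecidableEq ι]
variable {K : Type*} [Field K] [Algebra F K] [Finite K] [Module K (ι → F)]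
  [IsScalarTower F K (ι → F)] [FiniteDimensional F K]
variable {Q : QuadraticForm F (ι → F)} {t : K →ₗ[F] F}
  {β : (ι → F) →ₗ[K] (ι → F) →ₗ[K] K}

local notation "V" => ι → F
local notation "B" => QuadraticMap.polar (DFunLike.coe Q)

/-- Dimension three over an extension of odd degree at least three. -/
structure Dim3 (Q : QuadraticForm F (ι → F)) (t : K →ₗ[F] F)
    (β : (ι → F) →ₗ[K] (ι → F) →ₗ[K] K) : Prop extends Ext Q t β where
  eq3 : finrank K (ι → F) = 3
  rodd : Odd (finrank F K)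
  three : 3 ≤ finrank F K

/-- A group containing the linear part of `Ω` over `K`. -/
structure Full (β : (ι → F) →ₗ[K] (ι → F) →ₗ[K] K) (M : Subgroup (Grp Q)) : Prop where
  mem : ∀ g, g ∈ Cfsg.Omega F ⇑Q → (∀ (k : K) x, ap g (k • x) = k • ap g x) → g ∈ M

/-- An orthogonal basis. -/
structure Frame (β : (ι → F) →ₗ[K] (ι → F) →ₗ[K] K) (a b c : ι → F) : Prop where
  ab : β a b = 0
  ac : β a c = 0
  bc : β b c = 0
  qa : β a a ≠ 0
  qb : β b b ≠ 0
  qc : β c c ≠ 0

/-- A hyperbolic pair and a vector orthogonal to it. -/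
structure Hy (β : (ι → F) →ₗ[K] (ι → F) →ₗ[K] K) (u w v0 : ι → F) : Prop where
  uu : β u u = 0
  ww : β w w = 0
  uw : β u w = 1
  uv : β u v0 = 0
  wv : β w v0 = 0
  qv : β v0 v0 ≠ 0

/-- The half-turn about a vector. -/
def IsTurn (β : (ι → F) →ₗ[K] (ι → F) →ₗ[K] K) (e : ι → F) (g : Grp Q) : Prop :=
  β e e ≠ 0 ∧ ∀ x, ap g x = (2 * β x e / β e e) • e - x

/-- Commuting with the scalars of `K`. -/
def IsLinK (K : Type*) [SMul K (ι → F)] (g : Grp Q) : Prop :=
  ∀ (k : K) x, ap g (k • x) = k • ap g x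

omit [Finite K] [FiniteDimensional F K] in
theorem IsLinK.mul {g h : Grp Q} (hg : IsLinK K g) (hh : IsLinK K h) : IsLinK K (g * h) :=
  fun k x => by rw [ap_mul, ap_mul, hh, hg]

omit [Finite K] [FiniteDimensional F K] in
theorem IsLinK.inv {g : Grp Q} (hg : IsLinK K g) : IsLinK K g⁻¹ :=
  fun k x => ap_inj g (by rw [hg, ap_ap_inv, ap_ap_inv])

variable (hD : Dim3 Q t β)
include hD

theorem Dim3.card_ge : 9 ≤ finrank F (ι → F) := by
  haveI := hD.finiteK
  rw [← Module.finrank_mul_finrank F K (ι → F), hD.eq3]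
  have := hD.three
  omega

theorem Dim3.beta_ap {g : Grp Q} (hg : IsLinK K g) (x y : V) :
    β (ap g x) (ap g y) = β x y :=
  hD.t_ext fun μ => by rw [← hD.b_smul, ← hD.b_smul, ← hg, ap_b]

theorem Dim3.isSquare_base {f : F} (h : IsSquare (algebraMap F K f)) : IsSquare f := by
  obtain ⟨s, hs⟩ := h
  have h1 := congrArg (Algebra.norm F) hs
  rw [Algebra.norm_algebraMap, map_mul] at h1
  obtain ⟨j, hj⟩ := hD.rodd
  rw [hj, pow_succ, two_mul, pow_add] at h1
  by_cases hf : f = 0
  · exact ⟨0, by simp [hf]⟩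
  refine ⟨Algebra.norm F s / f ^ j, ?_⟩
  field_simp
  linear_combination h1

theorem Dim3.isSquare_mul {a b : K} (ha : ¬ IsSquare a) (hb : ¬ IsSquare b) : IsSquare (a * b) := by
  classical
  letI : Fintype K := Fintype.ofFinite K
  by_contra h
  have e := map_mul (quadraticChar K) a b
  rw [quadraticChar_neg_one_iff_not_isSquare.2 ha, quadraticChar_neg_one_iff_not_isSquare.2 hb,
    quadraticChar_neg_one_iff_not_isSquare.2 h] at e
  norm_num at e

theorem Dim3.sq_pair {a b c : K} : IsSquare (a * b) ∨ IsSquare (a * c) ∨ IsSquare (b * c) := by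
  by_cases ha : IsSquare a <;> by_cases hb : IsSquare b <;> by_cases hc : IsSquare c
  all_goals first
    | exact Or.inl (ha.mul hb) | exact Or.inr (Or.inl (ha.mul hc))
    | exact Or.inr (Or.inr (hb.mul hc))
    | exact Or.inl (hD.isSquare_mul ha hb) | exact Or.inr (Or.inl (hD.isSquare_mul ha hc))
    | exact Or.inr (Or.inr (hD.isSquare_mul hb hc))

/-- Square classes come from the base field. -/
theorem Dim3.exists_class {a : K} (ha : a ≠ 0) :
    ∃ (f : F) (k : K), f ≠ 0 ∧ k ≠ 0 ∧ a = f • (k * k) := by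
  classical
  by_cases h : IsSquare a
  · obtain ⟨k, rfl⟩ := h
    exact ⟨1, k, one_ne_zero, left_ne_zero_of_mul ha, (one_smul F _).symm⟩
  letI : Fintype F := Fintype.ofFinite F
  obtain ⟨f, hf⟩ := FiniteField.exists_nonsquare (F := F) fun e => hD.two (by
    haveI := ringChar.of_eq e
    exact CharTwo.two_eq_zero)
  have hf0 : f ≠ 0 := fun e => hf ⟨0, by simp [e]⟩
  obtain ⟨k, hk⟩ := hD.isSquare_mul h fun e => hf (hD.isSquare_base e)
  have hfK : algebraMap F K f ≠ 0 := fun e => hf0 ((algebraMap F K).injective (by rw [e, map_zero]))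
  refine ⟨f, k / algebraMap F K f, hf0, div_ne_zero (fun e => ?_) hfK, ?_⟩
  · rw [e, mul_zero] at hk
    exact mul_ne_zero ha hfK hk
  · rw [Algebra.smul_def]
    field_simp
    linear_combination hk

theorem Dim3.eq_zero_of_orth {a b c : V} (hab : β a b = 0) (hqa : β a a ≠ 0) (hqb : β b b ≠ 0)
    (hac : β a c = 0) (hbc : β b c = 0) (hc0 : c ≠ 0) {d : V} (hda : β d a = 0) (hdb : β d b = 0)
    (hdc : β d c = 0) : d = 0 := by
  haveI := hD.finiteK
  have hli : LinearIndependent K ![a, b, c] := by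
    refine Fintype.linearIndependent_iff.2 fun w hw => ?_
    simp only [Fin.sum_univ_three, Matrix.cons_val_zero, Matrix.cons_val_one, Matrix.cons_val] at hw
    have h0 := congrArg (β a) hw
    have h1 := congrArg (β b) hw
    simp only [map_add, map_smul, map_zero, smul_eq_mul, hab, hac, hbc, hD.symm b a, mul_zero,
      add_zero, zero_add, mul_eq_zero, or_false, hqa, hqb] at h0 h1
    rw [h0, h1, zero_smul, zero_smul, zero_add, zero_add] at hw
    intro i
    fin_cases i
    · exact h0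
    · exact h1
    · exact (smul_eq_zero.1 hw).resolve_right hc0
  have htop := hli.span_eq_top_of_card_eq_finrank (by rw [Fintype.card_fin, hD.eq3])
  refine hD.beta_nd fun y => ?_
  have hy : y ∈ Submodule.span K (Set.range ![a, b, c]) := by rw [htop]; trivial
  obtain ⟨w, rfl⟩ := (Submodule.mem_span_range_iff_exists_fun K).1 hy
  simp [Fin.sum_univ_three, hda, hdb, hdc]

theorem Frame.expand {a b c : V} (hf : Frame β a b c) (x : V) :
    x = (β x a / β a a) • a + (β x b / β b b) • b + (β x c / β c c) • c := by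
  refine sub_eq_zero.1 (hD.eq_zero_of_orth hf.ab hf.qa hf.qb hf.ac hf.bc
    (fun e => hf.qc (by simp [e])) ?_ ?_ ?_)
  all_goals
    simp [hf.ab, hf.ac, hf.bc, hD.symm b a, hD.symm c a, hD.symm c b, hf.qa, hf.qb, hf.qc]

omit [FiniteDimensional F K] in
theorem Frame.rot {a b c : V} (hf : Frame β a b c) : Frame β b c a :=
  ⟨hf.bc, by rw [hD.symm]; exact hf.ab, by rw [hD.symm]; exact hf.ac, hf.qb, hf.qc, hf.qa⟩

theorem Dim3.exists_third {a b : V} (hab : β a b = 0) (hqa : β a a ≠ 0) (hqb : β b b ≠ 0) :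
    ∃ c, Frame β a b c := by
  haveI := hD.finiteK
  have h := hD.finrank_perp_pair a b
  rw [hD.eq3] at h
  obtain ⟨c, hc, hc0⟩ := Submodule.exists_mem_ne_zero_of_ne_bot
    (Submodule.one_le_finrank_iff.1 (show 1 ≤ finrank K
      ((LinearMap.ker (β a) ⊓ LinearMap.ker (β b) : Submodule K V)) by omega))
  refine ⟨c, hab, hc.1, hc.2, hqa, hqb, fun e => hc0 ?_⟩
  exact hD.eq_zero_of_orth hab hqa hqb hc.1 hc.2 hc0 (by rw [hD.symm]; exact hc.1)
    (by rw [hD.symm]; exact hc.2) e

theorem Dim3.exists_frame {e : V} (he : β e e ≠ 0) : ∃ a b, Frame β a b e := by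
  obtain ⟨a, hea, hqa⟩ : ∃ a, β e a = 0 ∧ β a a ≠ 0 := by
    by_contra hc
    push Not at hc
    have horth : ∀ a b, β e a = 0 → β e b = 0 → β a b = 0 := fun a b ha hb => by
      have h := hc (a + b) (by rw [map_add, ha, hb, add_zero])
      simp only [map_add, LinearMap.add_apply, hc a ha, hc b hb, hD.symm b a, zero_add,
        add_zero] at h
      rw [← two_mul] at h
      exact (mul_eq_zero.1 h).resolve_left hD.twoK
    obtain ⟨a, ha, ha0⟩ : ∃ a, β e a = 0 ∧ a ≠ 0 := by
      haveI := hD.finiteK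
      have h := hD.finrank_perp_pair e e
      rw [inf_idem, hD.eq3] at h
      obtain ⟨a, ha, ha0⟩ := Submodule.exists_mem_ne_zero_of_ne_bot
        (Submodule.one_le_finrank_iff.1 (show 1 ≤ finrank K (LinearMap.ker (β e)) by omega))
      exact ⟨a, ha, ha0⟩
    refine ha0 (hD.beta_nd fun y => ?_)
    have h := horth a (y - (β e y / β e e) • e) ha (by
      rw [map_sub, map_smul, smul_eq_mul, div_mul_cancel₀ _ he, sub_self])
    rwa [map_sub, map_smul, hD.symm a e, ha, smul_zero, sub_zero] at h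
  obtain ⟨b, hf⟩ := hD.exists_third hea he hqa
  exact ⟨a, b, hf.rot hD⟩

theorem Hy.frame {u w v0 : V} (h : Hy β u w v0) : Frame β (u + w) (u - w) v0 := by
  refine ⟨?_, ?_, ?_, ?_, ?_, h.qv⟩
  all_goals
    simp [h.uu, h.ww, h.uw, h.uv, h.wv, hD.symm w u, ← two_mul, hD.twoK, sub_eq_add_neg]

theorem Hy.expand {u w v0 : V} (h : Hy β u w v0) (x : V) :
    x = β x w • u + β x u • w + (β x v0 / β v0 v0) • v0 := by
  refine sub_eq_zero.1 (hD.eq_zero_of_orth (h.frame hD).ab (h.frame hD).qa (h.frame hD).qb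
    (h.frame hD).ac (h.frame hD).bc (fun e => h.qv (by simp [e])) ?_ ?_ ?_)
  all_goals
    simp [h.uu, h.ww, h.uw, h.uv, h.wv, hD.symm w u, hD.symm v0 u, hD.symm v0 w, h.qv] <;> ring

theorem Dim3.exists_hy {u : V} (hu : β u u = 0) (hu0 : u ≠ 0) : ∃ w v0, Hy β u w v0 := by
  obtain ⟨w, hw, huw⟩ := hD.exists_mate hu hu0
  obtain ⟨v0, hv⟩ := hD.exists_third (a := u + w) (b := u - w)
    (by simp [hu, hw, huw, hD.symm w u])
    (by simp [hu, hw, huw, hD.symm w u, ← two_mul, hD.twoK])
    (by simp [hu, hw, huw, hD.symm w u, ← two_mul, hD.twoK, sub_eq_add_neg])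
  have e1 := hv.ac
  have e2 := hv.bc
  rw [map_add, LinearMap.add_apply] at e1
  rw [map_sub, LinearMap.sub_apply] at e2
  have e3 : (2 : K) * β u v0 = 0 := by linear_combination e1 + e2
  have e4 := (mul_eq_zero.1 e3).resolve_left hD.twoK
  exact ⟨w, v0, hu, hw, huw, e4, by linear_combination e1 - e4, hv.qc⟩

theorem Hy.perp {u w v0 : V} (h : Hy β u w v0) {x : V} (hx : β x u = 0) :
    x = β x w • u + (β x v0 / β v0 v0) • v0 := by
  conv_lhs => rw [h.expand hD x, hx, zero_smul, add_zero]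

/-- Orthogonal singular vectors are proportional. -/
theorem Dim3.line_of_orth {u x : V} (hu : β u u = 0) (hu0 : u ≠ 0) (hx : β x x = 0)
    (hxu : β x u = 0) : ∃ k : K, x = k • u := by
  obtain ⟨w, v0, h⟩ := hD.exists_hy hu hu0
  have e := h.perp hD hxu
  set k := β x v0 / β v0 v0
  rw [e] at hx
  change β (_ + k • v0) (_ + k • v0) = 0 at hx
  simp only [map_add, map_smul, LinearMap.add_apply, LinearMap.smul_apply, smul_eq_mul, h.uu, h.uv,
    hD.symm v0 u, mul_zero, add_zero, zero_add, mul_eq_zero, h.qv, or_false, or_self] at hx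
  refine ⟨β x w, ?_⟩
  conv_lhs => rw [h.perp hD hxu]
  rw [show β x v0 / β v0 v0 = k from rfl, hx, zero_smul, add_zero]

theorem Dim3.exists_turn {e : V} (he : β e e ≠ 0) : ∃ g : Grp Q, IsTurn β e g := by
  set f : V →ₗ[K] V := ((2 / β e e) • β.flip e).smulRight e - LinearMap.id with hf
  have hfx : ∀ x, f x = (2 * β x e / β e e) • e - x := fun x => by
    simp only [hf, LinearMap.sub_apply, LinearMap.smulRight_apply, LinearMap.smul_apply,
      LinearMap.flip_apply, LinearMap.id_apply, smul_eq_mul]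
    congr 2
    ring
  obtain ⟨g, hg⟩ := exists_iso hD.nd (f.restrictScalars F) fun x => by
    refine mul_left_cancel₀ hD.two ?_
    rw [LinearMap.restrictScalars_apply, hD.q_eq, hD.q_eq, hfx]
    congr 1
    simp only [map_sub, map_smul, LinearMap.sub_apply, LinearMap.smul_apply, smul_eq_mul,
      hD.symm e x]
    field_simp
    ring
  exact ⟨g, he, fun x => by rw [hg, LinearMap.restrictScalars_apply, hfx]⟩

theorem IsTurn.lin {e : V} {g : Grp Q} (hg : IsTurn β e g) : IsLinK K g := fun k x => by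
  rw [hg.2, hg.2, LinearMap.map_smul₂, smul_eq_mul, smul_sub, smul_smul]
  congr 2
  ring

theorem IsTurn.apply_self {e : V} {g : Grp Q} (hg : IsTurn β e g) : ap g e = e := by
  rw [hg.2, mul_div_assoc, div_self hg.1, mul_one, two_smul, add_sub_cancel_right]

theorem IsTurn.apply_perp {e x : V} {g : Grp Q} (hg : IsTurn β e g) (hx : β x e = 0) :
    ap g x = -x := by
  rw [hg.2, hx, mul_zero, zero_div, zero_smul, zero_sub]

theorem IsTurn.sq {e : V} {g : Grp Q} (hg : IsTurn β e g) : g * g = 1 := ext_ap fun x => by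
  rw [ap_mul, ap_one, hg.2, hg.2 x]
  simp only [map_sub, map_smul, LinearMap.sub_apply, LinearMap.smul_apply, smul_eq_mul]
  have := hg.1
  match_scalars <;> field_simp <;> ring

theorem IsTurn.conj {e : V} {g s : Grp Q} (hg : IsTurn β e g) (hs : IsLinK K s) :
    IsTurn β (ap s e) (s * g * s⁻¹) := by
  refine ⟨by rw [hD.beta_ap hs]; exact hg.1, fun x => ?_⟩
  have h : β x (ap s e) = β (ap s⁻¹ x) e := by
    conv_lhs => rw [← ap_ap_inv s x, hD.beta_ap hs]
  rw [ap_mul, ap_mul, hg.2, ap_sub, hs, ap_ap_inv, h, hD.beta_ap hs]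

theorem IsTurn.unique {e : V} {g h : Grp Q} (hg : IsTurn β e g) {k : K} (hk : k ≠ 0)
    (hh : IsTurn β (k • e) h) : g = h := ext_ap fun x => by
  rw [hg.2, hh.2, smul_smul]
  congr 2
  have := hg.1
  simp only [map_smul, LinearMap.smul_apply, smul_eq_mul]
  field_simp

variable {M : Subgroup (Grp Q)} (hM : Full β M)
include hM

theorem Full.over : Over β M :=
  ⟨fun hg => hD.isK_mem hM.mem (by have := hD.card_ge; omega) hg⟩

theorem Full.sq_mem {g : Grp Q} (hg : IsLinK K g) : g * g ∈ M :=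
  hM.mem _ (sq_mem_omega hD.nd (by have := hD.card_ge; omega) g) (hg.mul hg)

/-- A half-turn is in the group when the product of the two other values is a square. -/
theorem Full.turn_mem {a b e : V} (hf : Frame β a b e) (hsq : IsSquare (β a a * β b b)) {g : Grp Q}
    (hg : IsTurn β e g) : g ∈ M := by
  obtain ⟨k, hk⟩ := hsq
  obtain ⟨b', hb'⟩ : ∃ b', b' = (k / β b b) • b := ⟨_, rfl⟩
  have hk0 : k ≠ 0 := fun e => mul_ne_zero hf.qa hf.qb (by rw [hk, e, mul_zero])
  have hbb : β b' b' = β a a := by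
    rw [hb', map_smul, LinearMap.map_smul₂, smul_eq_mul, smul_eq_mul]
    have := hf.qb
    field_simp
    linear_combination -hk
  have hab : β a b' = 0 := by rw [hb', map_smul, hf.ab, smul_zero]
  have hbe : β b' e = 0 := by rw [hb', LinearMap.map_smul₂, hf.bc, smul_zero]
  have hf' : Frame β a b' e := ⟨hab, hf.ac, hbe, hf.qa, by rw [hbb]; exact hf.qa, hf.qc⟩
  set f : V →ₗ[K] V := LinearMap.id - ((β a a)⁻¹ • β.flip a).smulRight (a - b')
    - ((β a a)⁻¹ • β.flip b').smulRight (b' + a) with hfd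
  have hfx : ∀ x, f x = x - (β x a / β a a) • (a - b') - (β x b' / β a a) • (b' + a) := fun x => by
    simp only [hfd, LinearMap.sub_apply, LinearMap.smulRight_apply, LinearMap.smul_apply,
      LinearMap.flip_apply, LinearMap.id_apply, smul_eq_mul]
    ring_nf
  obtain ⟨ρ, hρ⟩ := exists_iso hD.nd (f.restrictScalars F) fun x => by
    refine mul_left_cancel₀ hD.two ?_
    rw [LinearMap.restrictScalars_apply, hD.q_eq, hD.q_eq, hfx]
    congr 1
    simp only [map_sub, map_add, map_smul, LinearMap.sub_apply, LinearMap.add_apply,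
      LinearMap.smul_apply, smul_eq_mul, hab, hD.symm b' a, hbb, hD.symm a x, hD.symm b' x]
    have := hf.qa
    field_simp
    ring
  have hρx : ∀ x, ap ρ x = f x := hρ
  have hρl : IsLinK K ρ := fun k x => by rw [hρx, hρx, map_smul]
  have e : g = ρ * ρ := ext_ap fun x => by
    conv_lhs => rw [hg.2]
    rw [ap_mul, hρx, hρx, hfx, hfx]
    have hx := hf'.expand hD x
    rw [hbb] at hx
    conv_lhs => arg 2; rw [hx]
    conv_rhs => arg 1; arg 1; arg 1; arg 1; rw [hx]
    simp only [map_sub, map_add, map_smul, LinearMap.sub_apply, LinearMap.add_apply,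
      LinearMap.smul_apply, smul_eq_mul, hab, hD.symm b' a, hbb]
    have := hf.qa
    have := hf.qc
    match_scalars <;> field_simp <;> ring
  rw [e]
  exact hM.sq_mem hD hρl

/-- Singular vectors with non-zero product are exchanged up to a scalar of the base field. -/
theorem Full.step {a b : V} (ha : β a a = 0) (hb : β b b = 0) (hab : β a b ≠ 0) :
    ∃ (f : F), f ≠ 0 ∧ ∃ g ∈ M, IsLinK K g ∧ ap g a = f • b := by
  obtain ⟨w, v0, h⟩ := hD.exists_hy ha (fun e => hab (by simp [e]))
  obtain ⟨z, hzd⟩ : ∃ z, z = v0 - (β b v0 / β a b) • a := ⟨_, rfl⟩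
  have haz : β a z = 0 := by simp [hzd, ha, h.uv]
  have hbz : β b z = 0 := by
    rw [hzd, map_sub, map_smul, hD.symm b a, smul_eq_mul, div_mul_cancel₀ _ hab, sub_self]
  have hqz : β z z ≠ 0 := by
    have e : β z z = β v0 v0 := by
      simp [hzd, ha, hD.symm v0 a, h.uv]
    rw [e]; exact h.qv
  obtain ⟨f, k, hf, hk, e⟩ := hD.exists_class
    (show -2 / (β a b * β z z) ≠ 0 from
      div_ne_zero (neg_ne_zero.2 hD.twoK) (mul_ne_zero hab hqz))
  refine ⟨f, hf, ?_⟩
  have hfK : algebraMap F K f ≠ 0 := fun e' => hf ((algebraMap F K).injective (by rw [e', map_zero]))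
  obtain ⟨b', hb'⟩ : ∃ b', b' = algebraMap F K f • b := ⟨_, rfl⟩
  rw [← algebraMap_smul K f b, ← hb']
  have hb'b : β b' b' = 0 := by simp [hb', hb]
  have hab' : β a b' = algebraMap F K f * β a b := by rw [hb', map_smul, smul_eq_mul]
  have hab0 : β a b' ≠ 0 := by rw [hab']; exact mul_ne_zero hfK hab
  obtain ⟨y, hy⟩ : ∃ y, y = k • z := ⟨_, rfl⟩
  have hay : β a y = 0 := by simp [hy, haz]
  have hby : β b' y = 0 := by simp [hy, hb', hbz]
  have hyy : β y y = -2 / β a b' := by
    rw [Algebra.smul_def] at e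
    rw [hy, map_smul, LinearMap.map_smul₂, smul_eq_mul, smul_eq_mul, hab']
    field_simp at e ⊢
    linear_combination -e
  set s := (β a b')⁻¹ • (a + b') + y with hs
  have hya : β y a = 0 := by rw [hD.symm]; exact hay
  have hyb : β y b' = 0 := by rw [hD.symm]; exact hby
  have has : β a s = 1 := by
    rw [hs, map_add, map_smul, map_add, ha, hay, zero_add, add_zero, smul_eq_mul,
      inv_mul_cancel₀ hab0]
  have hbs : β b' s = 1 := by
    rw [hs, map_add, map_smul, map_add, hb'b, hby, hD.symm b' a, add_zero, add_zero, smul_eq_mul,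
      inv_mul_cancel₀ hab0]
  have hss : β s s = 0 := by
    simp only [hs, map_add, map_smul, LinearMap.add_apply, LinearMap.smul_apply, smul_eq_mul, ha,
      hb'b, hay, hby, hya, hyb, hyy, hD.symm b' a]
    field_simp
    ring
  have hsv : β s (b' - a) = 0 := by rw [map_sub, hD.symm, hbs, hD.symm s, has, sub_self]
  obtain ⟨g, hg⟩ := hD.exists_isK hss hsv
  refine ⟨g, (hM.over hD).mem hg, hD.isK_lin hg, ?_⟩
  rw [hg.2.2, has, one_smul]
  have e' : β a (b' - a) + β (b' - a) (b' - a) / 2 * 1 = 0 := by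
    simp only [map_sub, LinearMap.sub_apply, ha, hb'b, hD.symm b' a]
    have := hD.twoK
    field_simp
    ring
  rw [e', zero_smul, sub_zero, add_sub_cancel]

/-- Transitivity on singular vectors up to a scalar of the base field. -/
theorem Full.trans {a b : V} (ha : β a a = 0) (hb : β b b = 0) (ha0 : a ≠ 0) (hb0 : b ≠ 0) :
    ∃ (f : F), f ≠ 0 ∧ ∃ g ∈ M, IsLinK K g ∧ ap g a = f • b := by
  by_cases hab : β a b = 0
  · obtain ⟨k, hk⟩ := hD.line_of_orth ha ha0 hb (by rw [hD.symm]; exact hab)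
    have hk0 : k ≠ 0 := fun e => hb0 (by rw [hk, e, zero_smul])
    obtain ⟨w, hw, haw⟩ := hD.exists_mate ha ha0
    obtain ⟨f, hf, g, hg, hl, e⟩ := hM.step hD ha hw (by rw [haw]; exact one_ne_zero)
    obtain ⟨f', hf', g', hg', hl', e'⟩ := hM.step hD hw hb
      (by rw [hk, map_smul, hD.symm w a, haw]; simpa using hk0)
    exact ⟨f * f', mul_ne_zero hf hf', g' * g, M.mul_mem hg' hg, hl'.mul hl,
      by rw [ap_mul, e, ap_smul, e', smul_smul]⟩
  · exact hM.step hD ha hb hab

end CfsgLib.OrthExt
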