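import Cfsg.Agent.Lib.Classical.OrthExtField.Three.Basic

set_option autoImplicit false
set_option linter.unusedSectionVars false

/-!
The root group of a line in dimension three over an extension field and the elements centralising
two of its members.
-/

namespace CfsgLib.OrthExt

open Module CfsgLib.Orth

variable {F : Type*} [Field F] [Finite F] {ι : Type} [Fintype ι] [DecidableEq ι]
variable {K : Type*} [Field K] [Algebra F K] [Finite K] [Module K (ι → F)]
  [IsScalarTower F K (ι → F)] [FiniteDimensional F K]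
variable {Q : QuadraticForm F (ι → F)} {t : K →ₗ[F] F}
  {β : (ι → F) →ₗ[K] (ι → F) →ₗ[K] K}

local notation "V" => ι → F
local notation "B" => QuadraticMap.polar (DFunLike.coe Q)

/-- Moving into a line and fixing its orthogonal. -/
def IsAlt (β : (ι → F) →ₗ[K] (ι → F) →ₗ[K] K) (u : ι → F) (c : Grp Q) : Prop :=
  c ≠ 1 ∧ (∀ x, ∃ k : K, dev c x = k • u) ∧ ∀ x, β x u = 0 → dev c x = 0

variable (hD : Dim3 Q t β)
include hD

theorem Dim3.eq_top_of_mem {S : Submodule F K} (h1 : (1 : K) ∈ S)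
    (hmul : ∀ k l, k ∈ S → l ∈ S → k * l ∈ S) {ρ : K} (hρ : ρ ∈ S)
    (hρF : ∀ f : F, ρ ≠ algebraMap F K f) (k : K) : k ∈ S := by
  haveI := Subalgebra.isSimpleOrder_of_finrank_prime F K hD.deg
  rcases eq_bot_or_eq_top (S.toSubalgebra h1 hmul) with h | h
  · have hm : ρ ∈ S.toSubalgebra h1 hmul := hρ
    rw [h, Algebra.mem_bot] at hm
    obtain ⟨f, hf⟩ := hm
    exact absurd hf.symm (hρF f)
  · exact (h ▸ Algebra.mem_top : k ∈ S.toSubalgebra h1 hmul)

theorem isK_unique {u v : V} {g h : Grp Q} (hg : IsK β u v g) (hh : IsK β u v h) : g = h :=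
  ext_ap fun x => by rw [hg.2.2, hh.2.2]

variable {M : Subgroup (Grp Q)} (hM : Full β M)
include hM

section root

variable {u w v0 : ι → F} (hH : Hy β u w v0) {T : K → Grp Q}
  (hT : ∀ lam, IsK β u (lam • v0) (T lam))
include hH hT

theorem root_apply (lam : K) (x : V) : ap (T lam) x = x + (β x u * lam) • v0
    - (lam * β x v0 + lam * lam * β v0 v0 / 2 * β x u) • u := by
  rw [(hT lam).2.2, smul_smul, map_smul, map_smul, LinearMap.map_smul₂, smul_eq_mul, smul_eq_mul,
    smul_eq_mul]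
  congr 3
  ring

theorem root_fix {lam : K} (hl : lam ≠ 0) (x : V) : ap (T lam) x = x ↔ ∃ k : K, x = k • u := by
  constructor
  · intro e
    rw [root_apply hD hM hH hT, add_sub_assoc, add_eq_left] at e
    have h1 := congrArg (fun y => β y v0) e
    simp only [map_sub, LinearMap.sub_apply, LinearMap.map_smul₂, smul_eq_mul, map_zero,
      LinearMap.zero_apply, hH.uv, mul_zero, sub_zero, mul_eq_zero, hl, hH.qv, or_false] at h1
    rw [h1, zero_mul, zero_smul, zero_sub, neg_eq_zero, smul_eq_zero, mul_zero, add_zero,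
      mul_eq_zero] at e
    have hu0 : u ≠ 0 := fun e => one_ne_zero (α := K) (by rw [← hH.uw, e]; simp)
    have h2 := (e.resolve_right hu0).resolve_left hl
    exact ⟨β x w, by conv_lhs => rw [hH.perp hD h1, h2, zero_div, zero_smul, add_zero]⟩
  · rintro ⟨k, rfl⟩
    exact siegel_fix_line hD.toExt (hT lam) k

variable {μ1 μ2 : K} (hμ1 : μ1 ≠ 0) (hρ : ∀ f : F, μ2 / μ1 ≠ algebraMap F K f) {g : Grp Q}
  (hg1 : ap g (μ1 • u) = μ1 • u)
include hμ1 hρ hg1

/-- An element centralising two root elements. -/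
theorem cent_mem (hgM : g ∈ M) (hno : ∀ c ∈ M, ¬ IsAlt β u c) {l1 l2 : K} (hl1 : l1 ≠ 0)
    (hl : ∀ f : F, l2 / l1 ≠ algebraMap F K f) (h1 : g * T l1 = T l1 * g)
    (h2 : g * T l2 = T l2 * g) : ∃ φ : K, g = T φ := by
  have hu0 : u ≠ 0 := fun e => one_ne_zero (α := K) (by rw [← hH.uw, e]; simp)
  have hfix : ∀ x, (∃ k : K, x = k • u) → ∃ k : K, ap g x = k • u := by
    intro x hx
    rw [← root_fix hD hM hH hT hl1] at hx
    refine (root_fix hD hM hH hT hl1 _).1 ?_
    rw [← ap_mul, ← h1, ap_mul, hx]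
  have hfix' : ∀ x, (∃ k : K, x = k • u) → ∃ k : K, ap g⁻¹ x = k • u := by
    intro x hx
    rw [← root_fix hD hM hH hT hl1] at hx
    refine (root_fix hD hM hH hT hl1 _).1 (ap_inj g ?_)
    rw [← ap_mul, h1, ap_mul, ap_ap_inv, hx]
  set A : K →ₗ[F] K := (β.flip w).restrictScalars F ∘ₗ psi u g
  have hA : ∀ μ, ap g (μ • u) = A μ • u := fun μ => by
    obtain ⟨k, hk⟩ := hfix _ ⟨μ, rfl⟩
    rw [hk, show A μ = β (ap g (μ • u)) w from rfl, hk, LinearMap.map_smul₂, hH.uw, smul_eq_mul,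
      mul_one]
  have hperp : ∀ x, β x u = 0 → β (ap g x) u = 0 := fun x hx => hD.beta_zero_iff.2 fun μ => by
    obtain ⟨k, hk⟩ := hfix' _ ⟨μ, rfl⟩
    rw [ap_b_left, hk, hD.b_smul', hx, mul_zero, map_zero]
  set C : K →ₗ[F] K := LinearMap.mulRight F (β v0 v0)⁻¹ ∘ₗ Pairing β v0 v0 g
  have hC : ∀ b, ap g (b • v0) = β (ap g (b • v0)) w • u + C b • v0 := fun b => by
    conv_lhs => rw [hH.perp hD (hperp (b • v0) (by
      rw [LinearMap.map_smul₂, hD.symm, hH.uv, smul_zero])), div_eq_mul_inv]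
    rfl
  have rel : ∀ l, g * T l = T l * g → ∀ b, A (l * b * β v0 v0) = l * β v0 v0 * C b := by
    intro l hl b
    have e := congrArg (fun s => ap s (b • v0)) hl
    simp only [ap_mul] at e
    rw [root_apply hD hM hH hT, root_apply hD hM hH hT,
      hperp _ (show β (b • v0) u = 0 by rw [LinearMap.map_smul₂, hD.symm, hH.uv, smul_zero]),
      show β (b • v0) u = 0 by rw [LinearMap.map_smul₂, hD.symm, hH.uv, smul_zero]] at e
    simp only [zero_mul, mul_zero, zero_smul, add_zero, ap_sub, hA, LinearMap.map_smul₂,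
      smul_eq_mul] at e
    rw [sub_right_inj] at e
    have e' := smul_left_injective K hu0 e
    have hc : β (ap g (b • v0)) v0 = C b * β v0 v0 := by
      show _ = _ * (β v0 v0)⁻¹ * _
      rw [inv_mul_cancel_right₀ hH.qv]
      rfl
    rw [mul_assoc l b, e', hc]
    ring
  -- linearity over `K`
  have hsame : ∀ b, C (l2 / l1 * b) = l2 / l1 * C b := fun b => by
    have r1 := rel l1 h1 (l2 / l1 * b)
    have r2 := rel l2 h2 b
    rw [show l1 * (l2 / l1 * b) * β v0 v0 = l2 * b * β v0 v0 by field_simp, r2] at r1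
    have := hH.qv
    field_simp at r1 ⊢
    linear_combination -r1
  let S : Submodule F K :=
    { carrier := {k | ∀ b, C (k * b) = k * C b}
      add_mem' := fun {k l} hk hl b => by rw [add_mul, map_add, hk, hl, add_mul]
      zero_mem' := fun b => by rw [zero_mul, map_zero, zero_mul]
      smul_mem' := fun f k hk b => by rw [smul_mul_assoc, map_smul, hk, smul_mul_assoc] }
  have hS := hD.eq_top_of_mem (S := S) (fun b => by rw [one_mul, one_mul])
    (fun k l hk hl b => by rw [mul_assoc, hk, hl, mul_assoc]) (ρ := l2 / l1) hsame hl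
  have hCk : ∀ b, C b = b * C 1 := fun b => by
    conv_lhs => rw [← mul_one b]
    exact hS b 1
  have hAk : ∀ μ, A μ = μ * C 1 := fun μ => by
    have r1 := rel l1 h1 (μ / (l1 * β v0 v0))
    rw [hCk] at r1
    have := hH.qv
    rw [show l1 * (μ / (l1 * β v0 v0)) * β v0 v0 = μ by field_simp] at r1
    rw [r1]
    field_simp
  have hc1 : C 1 = 1 := by
    have e := hA μ1
    rw [hg1, hAk] at e
    have e' := smul_left_injective K hu0 e
    exact mul_left_cancel₀ hμ1 ((mul_one μ1).trans e').symm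
  have hU : ∀ μ : K, ap g (μ • u) = μ • u := fun μ => by rw [hA, hAk, hc1, mul_one]
  have hinvU : ∀ μ : K, ap g⁻¹ (μ • u) = μ • u := fun μ => by
    conv_lhs => rw [← hU μ, ap_inv_ap]
  -- the unipotent part
  set Φ : K →ₗ[F] K := LinearMap.mulRight F (β v0 v0)⁻¹ ∘ₗ Pairing β v0 w g
  set Ψ : K →ₗ[F] K := Pairing β w v0 g
  have hW : ∀ ν, ap g (ν • w) = ν • w + Φ ν • v0 + β (ap g (ν • w)) w • u := fun ν => by
    have hu' : β (ap g (ν • w)) u = ν := hD.t_ext fun μ => by
      rw [← hD.b_smul', ← hU μ, ap_b, hD.b_smul', LinearMap.map_smul₂, hD.symm w u, hH.uw,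
        smul_eq_mul, mul_one]
    conv_lhs => rw [hH.expand hD (ap g (ν • w)), hu']
    show _ + _ + (β (ap g (ν • w)) v0 / β v0 v0) • v0 = ν • w + (β (ap g (ν • w)) v0 * (β v0 v0)⁻¹) • v0 + _
    rw [div_eq_mul_inv]
    abel
  have hV : ∀ b, ap g (b • v0) = b • v0 + Ψ b • u := fun b => by
    rw [hC, hCk, hc1, mul_one, add_comm]
    rfl
  have hTw : ∀ l (ν : K), ap (T l) (ν • w) = ν • w + (ν * l) • v0
      - (l * l * β v0 v0 / 2 * ν) • u := fun l ν => by
    rw [root_apply hD hM hH hT, LinearMap.map_smul₂, LinearMap.map_smul₂, hD.symm w u, hH.uw, hH.wv]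
    simp
  have hTv : ∀ l (b : K), ap (T l) (b • v0) = b • v0 - (l * b * β v0 v0) • u := fun l b => by
    rw [root_apply hD hM hH hT, LinearMap.map_smul₂, LinearMap.map_smul₂, hD.symm v0 u, hH.uv]
    simp [mul_assoc]
  have hTu : ∀ l (μ : K), ap (T l) (μ • u) = μ • u := fun l μ => siegel_fix_line hD.toExt (hT l) μ
  have rel2 : ∀ l, g * T l = T l * g → ∀ ν, Ψ (ν * l) = -(l * β v0 v0 * Φ ν) := by
    intro l hl ν
    have e := congrArg (fun s => ap s (ν • w)) hl
    simp only [ap_mul] at e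
    rw [hTw, ap_sub, ap_add, hW, hV, hU, ap_add, ap_add, hTw, hTv, hTu, ← sub_eq_zero] at e
    have e' : (Ψ (ν * l) + l * β v0 v0 * Φ ν) • u = 0 := by
      rw [← e]; module
    linear_combination (smul_eq_zero.1 e').resolve_right hu0
  have hsame' : ∀ ν, Φ (l2 / l1 * ν) = l2 / l1 * Φ ν := fun ν => by
    have r1 := rel2 l1 h1 (l2 / l1 * ν)
    have r2 := rel2 l2 h2 ν
    rw [show l2 / l1 * ν * l1 = ν * l2 by field_simp, r2] at r1
    have := hH.qv
    field_simp at r1 ⊢
    linear_combination r1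
  let S' : Submodule F K :=
    { carrier := {k | ∀ b, Φ (k * b) = k * Φ b}
      add_mem' := fun {k l} hk hl b => by rw [add_mul, map_add, hk, hl, add_mul]
      zero_mem' := fun b => by rw [zero_mul, map_zero, zero_mul]
      smul_mem' := fun f k hk b => by rw [smul_mul_assoc, map_smul, hk, smul_mul_assoc] }
  have hS' := hD.eq_top_of_mem (S := S') (fun b => by rw [one_mul, one_mul])
    (fun k l hk hl b => by rw [mul_assoc, hk, hl, mul_assoc]) (ρ := l2 / l1) hsame' hl
  obtain ⟨φ, hφd⟩ : ∃ φ, φ = Φ 1 := ⟨_, rfl⟩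
  have hΦ : ∀ ν, Φ ν = ν * φ := fun ν => by
    conv_lhs => rw [← mul_one ν]
    rw [hS' ν 1, hφd]
  have hΨ : ∀ b, Ψ b = -(b * β v0 v0 * φ) := fun b => by
    have r := rel2 l1 h1 (b / l1)
    rw [div_mul_cancel₀ _ hl1, hΦ] at r
    rw [r]
    field_simp
  refine ⟨φ, ?_⟩
  have hcM : T (-φ) * g ∈ M := M.mul_mem ((hM.over hD).mem (hT _)) hgM
  have hc : T (-φ) * g = 1 := by
    by_contra hne
    refine hno _ hcM ⟨hne, fun x => ?_, fun x hx => ?_⟩
    · refine ⟨β (dev (T (-φ) * g) x) w, ?_⟩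
      obtain ⟨ka, kb, kc, rfl⟩ : ∃ ka kb kc : K, x = ka • u + kb • w + kc • v0 :=
        ⟨_, _, _, hH.expand hD x⟩
      generalize hy : dev (T (-φ) * g) (ka • u + kb • w + kc • v0) = y
      have e : β y u = 0 ∧ β y v0 = 0 := by
        obtain ⟨θ, hθ⟩ : ∃ θ, ap g (kb • w) = kb • w + (kb * φ) • v0 + θ • u :=
          ⟨_, (hW kb).trans (by rw [hΦ])⟩
        rw [← hy, dev_apply, ap_mul]
        simp only [ap_add, ap_sub, hU, hθ, hV, hΨ, hTu, hTw, hTv]
        simp only [map_add, map_sub, LinearMap.map_smul₂, LinearMap.add_apply, LinearMap.sub_apply,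
          smul_eq_mul, hH.uu, hH.uv, hH.wv, hD.symm v0 u, hD.symm w u, hH.uw]
        constructor <;> ring
      conv_lhs => rw [hH.perp hD e.1, e.2, zero_div, zero_smul, add_zero]
    · obtain ⟨ka, kc, rfl⟩ : ∃ ka kc : K, x = ka • u + kc • v0 := ⟨_, _, hH.perp hD hx⟩
      rw [dev_apply, ap_mul, ap_add, hU, hV, hΨ]
      simp only [ap_add, hTu, hTv]
      module
  have e : T φ * T (-φ) = 1 := by
    have h := isK_mul hD.toExt (hT φ) (hT (-φ))
    rw [← add_smul, add_neg_cancel, zero_smul] at h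
    refine ext_ap fun x => ?_
    rw [h.2.2, ap_one]
    simp
  calc g = T φ * T (-φ) * g := by rw [e, one_mul]
    _ = T φ * (T (-φ) * g) := mul_assoc _ _ _
    _ = T φ := by rw [hc, mul_one]

end root

end CfsgLib.OrthExt
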