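import Cfsg.Agent.Lib.Classical.OrthExtField.Three.Alt

set_option autoImplicit false
set_option linter.unusedSectionVars false

/-!
Two images meeting in two dimensions can be raised to meet in hyperplanes of each, orthogonally, once
the half-turns about axes with isotropic orthogonal are available.
-/

namespace CfsgLib.OrthExt

open Module CfsgLib.Orth

variable {F : Type*} [Field F] [Finite F] {ι : Type} [Fintype ι] [DecidableEq ι]
variable {K : Type*} [Field K] [Algebra F K] [Finite K] [Module K (ι → F)]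
  [IsScalarTower F K (ι → F)] [FiniteDimensional F K]
variable {Q : QuadraticForm F (ι → F)} {t : K →ₗ[F] F}
  {β : (ι → F) →ₗ[K] (ι → F) →ₗ[K] K}

local notation "V" => ι → F
local notation "B" => QuadraticMap.polar (DFunLike.coe Q)

/-- The half-turns about axes with isotropic orthogonal. -/
def Turns (β : (ι → F) →ₗ[K] (ι → F) →ₗ[K] K) (M : Subgroup (Grp Q)) : Prop :=
  ∀ u w e g, Hy β u w e → IsTurn β e g → g ∈ M

variable (hD : Dim3 Q t β)
include hD

/-- A functional valued in the extension with a kernel is orthogonal to some scalar. -/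
theorem Dim3.exists_annih {A : K →ₗ[F] K} {μ : K} (hμ : μ ≠ 0) (hA : A μ = 0) :
    ∃ c : K, c ≠ 0 ∧ ∀ ν, t (c * A ν) = 0 := by
  set Φ : K →ₗ[F] Module.Dual F K := ((LinearMap.mul F K).compr₂ t).compl₂ A
  by_contra hcon
  push Not at hcon
  have hinj : Function.Injective Φ := by
    rw [← LinearMap.ker_eq_bot, LinearMap.ker_eq_bot']
    intro x hx
    by_contra hx0
    obtain ⟨ν, hν⟩ := hcon x hx0
    exact hν (LinearMap.congr_fun hx ν)
  obtain ⟨f, hf, -⟩ := Submodule.exists_le_ker_of_notMem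
    (show μ ∉ (⊥ : Submodule F K) by simpa using hμ)
  obtain ⟨x, hx⟩ := (LinearMap.injective_iff_surjective_of_finrank_eq_finrank
    Subspace.dual_finrank_eq.symm).1 hinj f
  refine hf ?_
  rw [← hx, show Φ x μ = t (x * A μ) from rfl, hA, mul_zero, map_zero]

theorem lt_of_new {u u' : V} {g h : Grp Q} (hle : Lsp (K := K) u u' g ≤ Lsp u' u' h) {μ : K}
    (hμ : μ ∈ Lsp u' u' h) (hμ' : μ ∉ Lsp u u' g) :
    finrank F (Lsp (K := K) u u' g) < finrank F (Lsp (K := K) u' u' h) :=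
  Submodule.finrank_lt_finrank_of_lt (lt_of_le_of_ne hle fun e => hμ' (e ▸ hμ))

variable {M : Subgroup (Grp Q)} (hM : Full β M)
include hM

/-- An image vector orthogonal to the line: the intersection grows unless the goal is reached. -/
theorem grow_noninj {u u' : V} {g : Grp Q} (hp : Pair β M u u' g)
    (hk : 2 ≤ finrank F (Lsp (K := K) u u' g)) {μ0 : K} (hμ0 : μ0 ∉ Lsp u u' g)
    (hA0 : Pairing β u u' g μ0 = 0) :
    (∃ h, Pair β M u' u' h ∧
      finrank F (Lsp (K := K) u u' g) < finrank F (Lsp (K := K) u' u' h)) ∨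
    (finrank F (Lsp (K := K) u u' g) + 1 = finrank F K ∧ ∀ μ, Pairing β u u' g μ = 0) := by
  classical
  obtain ⟨w, v0, hH⟩ := hD.exists_hy hp.sing hp.ne
  set A := Pairing β u u' g
  set Bf : K →ₗ[F] K := Pairing β v0 u' g
  have hBf : ∀ μ, Bf μ = β (ap g (μ • u')) v0 := fun μ => rfl
  have hker : ∀ μ, A μ = 0 → Bf μ = 0 → μ ∈ Lsp u u' g := fun μ h1 h2 => by
    rw [hBf] at h2
    exact mem_lsp.2 ⟨β (ap g (μ • u')) w, by
      conv_rhs => rw [hH.perp hD (show β (ap g (μ • u')) u = 0 from h1), h2, zero_div, zero_smul,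
        add_zero]⟩
  have hB0 : Bf μ0 ≠ 0 := fun h => hμ0 (hker μ0 hA0 h)
  set Lb : Submodule F K := Scal K (Img K u' g) u
  obtain ⟨ζ, hζ⟩ := lbar_lt hD.toExt hp
  have hLb : ∀ l, l ∈ Lb ↔ ∃ μ, ap g (μ • u') = l • u := fun l => mem_scal.trans mem_img
  have hnot : ¬ ∀ l : K, l ∈ Lb := fun hall => by
    obtain ⟨μ, hμ⟩ := (hLb ζ).1 (hall ζ)
    exact hζ μ hμ.symm
  obtain ⟨ν1, hν1, hν10⟩ := Submodule.exists_mem_ne_zero_of_ne_bot
    (Submodule.one_le_finrank_iff.1 (show 1 ≤ finrank F (Lsp (K := K) u u' g) by omega))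
  obtain ⟨ν2, hν2, hν12⟩ : ∃ ν2 ∈ Lsp (K := K) u u' g, ν2 ∉ Submodule.span F {ν1} := by
    by_contra hc
    push Not at hc
    have := (Submodule.finrank_mono hc).trans (finrank_span_singleton (K := F) hν10).le
    omega
  obtain ⟨l1, hl1⟩ := mem_lsp.1 hν1
  obtain ⟨l2, hl2⟩ := mem_lsp.1 hν2
  have hl1L : l1 ∈ Lb := (hLb l1).2 ⟨ν1, hl1.symm⟩
  have hl2L : l2 ∈ Lb := (hLb l2).2 ⟨ν2, hl2.symm⟩
  have hl10 : l1 ≠ 0 := fun e => hν10 ((smul_eq_zero.1 (ap_inj g
    (hl1.symm.trans (by rw [e, zero_smul, ap_zero])))).resolve_right hp.ne')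
  have hratio : ∀ f : F, l2 ≠ f • l1 := fun f e => hν12 (Submodule.mem_span_singleton.2
    ⟨f, smul_left_injective K hp.ne' (ap_inj g (by
      simp only [smul_assoc, ap_smul]
      rw [← hl1, ← hl2, e, smul_assoc]))⟩)
  -- the stabiliser of the scalars of the intersection is the base field
  let S : Submodule F K :=
    { carrier := {x | ∀ z ∈ Lb, x * z ∈ Lb}
      add_mem' := fun {x y} hx hy z hz => by rw [add_mul]; exact Lb.add_mem (hx z hz) (hy z hz)
      zero_mem' := fun z _ => by rw [zero_mul]; exact Lb.zero_mem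
      smul_mem' := fun c x hx z hz => by rw [smul_mul_assoc]; exact Lb.smul_mem c (hx z hz) }
  have hSbase : ∀ x ∈ S, ∃ f : F, x = algebraMap F K f := by
    intro x hx
    by_contra hc
    push Not at hc
    refine hnot fun l => ?_
    have h := hD.eq_top_of_mem (S := S) (fun z hz => by rwa [one_mul])
      (fun a b ha hb z hz => by rw [mul_assoc]; exact ha _ (hb z hz)) hx hc (l / l1) l1 hl1L
    rwa [div_mul_cancel₀ _ hl10] at h
  by_cases hmv : ∃ lam : K, lam * Bf μ0 ∈ Lb ∧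
      ∃ s, IsK β u (lam • v0) s ∧ ∃ μ : K, μ ∉ Lsp u' u' (g⁻¹ * s * g)
  · obtain ⟨lam, hlam, s, hs, hmoved⟩ := hmv
    refine Or.inl ⟨g⁻¹ * s * g, ⟨M.mul_mem (M.mul_mem (M.inv_mem hp.mem) ((hM.over hD).mem hs))
      hp.mem, hp.sing', hp.ne', hp.sing', hp.ne', hmoved⟩,
      lt_of_new hD (le_transport hD.toExt hs) ?_ hμ0⟩
    rw [transport_mem]
    obtain ⟨ν, hν⟩ := (hLb _).1 hlam
    refine ⟨μ0 - ν, ?_⟩
    rw [sub_smul, ap_sub, hν, hs.2.2, show β (ap g (μ0 • u')) u = 0 from hA0, map_smul,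
      show β (ap g (μ0 • u')) v0 = Bf μ0 from rfl, smul_eq_mul, zero_smul, add_zero, mul_zero,
      add_zero]
  push Not at hmv
  right
  have hdev : ∀ lam : K, lam * Bf μ0 ∈ Lb → ∀ μ, (A μ * lam) • v0
      - (lam * Bf μ + lam * lam * β v0 v0 / 2 * A μ) • u ∈ Img K u' g := by
    intro lam hlam μ
    obtain ⟨s, hs⟩ := hD.exists_isK hp.sing (v := lam • v0) (by rw [map_smul, hH.uv, smul_zero])
    obtain ⟨k, hk⟩ := transport_mem.1 (hmv lam hlam s hs μ)
    refine ⟨k - μ, ?_⟩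
    rw [psi_apply, sub_smul, ap_sub, hk, hs.2.2, show β (ap g (μ • u')) u = A μ from rfl, smul_smul,
      map_smul, map_smul, LinearMap.map_smul₂, show β (ap g (μ • u')) v0 = Bf μ from rfl, smul_eq_mul,
      smul_eq_mul, smul_eq_mul]
    module
  have hA : ∀ μ, A μ = 0 := by
    by_contra hc
    push Not at hc
    obtain ⟨μ1, hμ1⟩ := hc
    set γ := β v0 v0 * A μ1 / (Bf μ0 * Bf μ0)
    have hγ : γ ≠ 0 := div_ne_zero (mul_ne_zero hH.qv hμ1) (mul_ne_zero hB0 hB0)
    have hsqL : ∀ l ∈ Lb, l * l * γ ∈ Lb := by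
      intro l hl
      have h2 : 2 * (l / Bf μ0) * Bf μ0 ∈ Lb := by
        rw [mul_assoc, div_mul_cancel₀ _ hB0, two_mul]; exact Lb.add_mem hl hl
      have d1 := hdev (l / Bf μ0) (by rwa [div_mul_cancel₀ _ hB0]) μ1
      have d2 := hdev (2 * (l / Bf μ0)) h2 μ1
      have d3 := neg_mem (sub_mem d2 (add_mem d1 d1))
      refine mem_scal.2 ?_
      convert d3 using 1
      simp only [γ]
      have := hD.twoK
      match_scalars <;> field_simp <;> ring
    have hmulL : ∀ l ∈ Lb, ∀ m ∈ Lb, l * m * γ ∈ Lb := by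
      intro l hl m hm
      have h := Lb.smul_mem (2 : F)⁻¹
        (sub_mem (sub_mem (hsqL _ (Lb.add_mem hl hm)) (hsqL _ hl)) (hsqL _ hm))
      convert h using 1
      rw [Algebra.smul_def, map_inv₀, map_ofNat]
      have := hD.twoK
      field_simp
      ring
    obtain ⟨f1, e1⟩ := hSbase (l1 * γ) fun z hz => by
      rw [mul_right_comm]; exact hmulL _ hl1L z hz
    obtain ⟨f2, e2⟩ := hSbase (l2 * γ) fun z hz => by
      rw [mul_right_comm]; exact hmulL _ hl2L z hz
    have hf1 : f1 ≠ 0 := fun e => mul_ne_zero hl10 hγ (by rw [e1, e, map_zero])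
    refine hratio (f2 / f1) (mul_right_cancel₀ hγ ?_)
    rw [smul_mul_assoc, e1, e2, Algebra.smul_def, ← map_mul, div_mul_cancel₀ _ hf1]
  refine ⟨?_, hA⟩
  have hle : (⊤ : Submodule F K) ≤ Lsp (K := K) u u' g ⊔ Submodule.span F {μ0} := by
    intro μ _
    obtain ⟨f, hf⟩ := hSbase (Bf μ / Bf μ0) fun z hz => by
      have hd := hdev (z / Bf μ0) (by rwa [div_mul_cancel₀ _ hB0]) μ
      rw [hA μ, zero_mul, zero_smul, mul_zero, add_zero, zero_sub] at hd
      have h' : (z / Bf μ0 * Bf μ) • u ∈ Img K u' g := neg_mem_iff.1 hd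
      refine mem_scal.2 ?_
      rwa [show Bf μ / Bf μ0 * z = z / Bf μ0 * Bf μ by field_simp]
    refine Submodule.mem_sup.2 ⟨μ - f • μ0, hker _ ?_ ?_, f • μ0,
      Submodule.mem_span_singleton.2 ⟨f, rfl⟩, sub_add_cancel _ _⟩
    · rw [map_sub, map_smul, hA, hA, smul_zero, sub_zero]
    · rw [map_sub, map_smul, Algebra.smul_def, ← hf, div_mul_cancel₀ _ hB0, sub_self]
  have h1 := Submodule.finrank_mono hle
  rw [finrank_top] at h1
  have h2 := Submodule.finrank_add_le_finrank_add_finrank (Lsp (K := K) u u' g)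
    (Submodule.span F {μ0})
  have h3 : finrank F (Submodule.span F {μ0}) = 1 :=
    finrank_span_singleton fun e => hμ0 (by rw [e]; exact Submodule.zero_mem _)
  have h4 := hp.finrank_lt hD.toExt
  omega

/-- A non-degenerate pairing: the intersection grows or a vector orthogonal to the line appears. -/
theorem grow_inj (hT : Turns β M) {u u' : V} {g : Grp Q} (hp : Pair β M u u' g)
    (hk : 2 ≤ finrank F (Lsp (K := K) u u' g))
    (hinj : ∀ μ, μ ∉ Lsp u u' g → Pairing β u u' g μ ≠ 0) :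
    (∃ h, Pair β M u' u' h ∧
      finrank F (Lsp (K := K) u u' g) < finrank F (Lsp (K := K) u' u' h)) ∨
    (∃ h, Pair β M u' u' h ∧
      finrank F (Lsp (K := K) u u' g) ≤ finrank F (Lsp (K := K) u' u' h) ∧
      ∃ μ, μ ∉ Lsp u' u' h ∧ Pairing β u' u' h μ = 0) := by
  classical
  obtain ⟨μ0, hμ0⟩ := hp.moved
  set A := Pairing β u u' g
  have hA0 := hinj μ0 hμ0
  set x0 := ap g (μ0 • u') with hx0
  have hxu : β x0 u = A μ0 := rfl
  obtain ⟨w, hwd⟩ : ∃ w, w = (A μ0)⁻¹ • (x0 - (β x0 x0 / (2 * A μ0)) • u) := ⟨_, rfl⟩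
  have h2 := hD.twoK
  have hww : β w w = 0 := by
    simp [hwd, hp.sing, hD.symm u x0, hxu]
    right
    field_simp
    ring
  have huw : β u w = 1 := by
    simp [hwd, hp.sing, hD.symm u x0, hxu, hA0]
  obtain ⟨v, hv⟩ := hD.exists_third (a := u + w) (b := u - w)
    (by simp [hp.sing, hww, huw, hD.symm w u])
    (by simp [hp.sing, hww, huw, hD.symm w u, ← two_mul, h2])
    (by simp [hp.sing, hww, huw, hD.symm w u, ← two_mul, h2, sub_eq_add_neg])
  have e1 := hv.ac
  have e2 := hv.bc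
  rw [map_add, LinearMap.add_apply] at e1
  rw [map_sub, LinearMap.sub_apply] at e2
  have e3 : (2 : K) * β u v = 0 := by linear_combination e1 + e2
  have huv : β u v = 0 := (mul_eq_zero.1 e3).resolve_left h2
  have hH : Hy β u w v := ⟨hp.sing, hww, huw, huv, by linear_combination e1 - huv, hv.qc⟩
  have hxv : β x0 v = 0 := by
    have e := congrArg (fun y => β y v) hwd
    simp [hH.wv, huv] at e
    exact e.resolve_left hA0
  obtain ⟨D, hDt⟩ := hD.exists_turn hH.qv
  have hDM : D ∈ M := hT u w v D hH hDt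
  have hDx : ∀ {y}, β y v = 0 → ap D y = -y := fun h => hDt.apply_perp hD h
  have hDu : ∀ k : K, ap D (k • u) = -(k • u) := fun k => hDx (by
    rw [LinearMap.map_smul₂, huv, smul_zero])
  by_cases hmv : ∃ μ : K, μ ∉ Lsp u' u' (g⁻¹ * D * g)
  · refine Or.inl ⟨g⁻¹ * D * g, ⟨M.mul_mem (M.mul_mem (M.inv_mem hp.mem) hDM) hp.mem, hp.sing',
      hp.ne', hp.sing', hp.ne', hmv⟩, lt_of_new hD (fun μ hμ => ?_) ?_ hμ0⟩
    · obtain ⟨k, hk⟩ := mem_lsp.1 hμ
      rw [transport_mem]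
      exact ⟨-μ, by rw [← hk, hDu, hk, neg_smul, ← neg_one_smul F (μ • u'), ap_smul, neg_one_smul]⟩
    · rw [transport_mem]
      exact ⟨-μ0, by
        rw [← hx0, hDx hxv, hx0, neg_smul, ← neg_one_smul F (μ0 • u'), ap_smul, neg_one_smul]⟩
  push Not at hmv
  right
  have hplane : ∀ y ∈ Img K u' g, β y v = 0 := by
    rintro _ ⟨μ, rfl⟩
    rw [psi_apply]
    obtain ⟨k, hk⟩ := transport_mem.1 (hmv μ)
    have hmem : (2⁻¹ : F) • (k + μ) ∈ Lsp u u' g := by
      by_contra hc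
      refine hinj _ hc ?_
      rw [pairing_apply, smul_assoc, add_smul, ap_smul, ap_add, hk, hDt.2, sub_add_cancel,
        LinearMap.map_smul_of_tower, LinearMap.smul_apply, LinearMap.map_smul₂, hD.symm v u, huv,
        smul_zero, smul_zero]
    obtain ⟨k', hk'⟩ := mem_lsp.1 hmem
    rw [smul_assoc, add_smul, ap_smul, ap_add, hk, hDt.2, sub_add_cancel] at hk'
    have h := congrArg (fun y => β y v) hk'
    simp only [LinearMap.map_smul_of_tower, LinearMap.smul_apply, LinearMap.map_smul₂, huv,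
      smul_zero, smul_eq_mul, div_mul_cancel₀ _ hH.qv, mul_zero] at h
    exact (mul_eq_zero.1 ((smul_eq_zero.1 h.symm).resolve_left
      (inv_ne_zero hD.two))).resolve_left h2
  obtain ⟨ν1, hν1, hν10⟩ := Submodule.exists_mem_ne_zero_of_ne_bot
    (Submodule.one_le_finrank_iff.1 (show 1 ≤ finrank F (Lsp (K := K) u u' g) by omega))
  obtain ⟨c, hc0, hc⟩ := hD.exists_annih (A := A) hν10 (pairing_of_mem hD.toExt hp hν1)
  obtain ⟨f, lam, hf, hlam, e⟩ := hD.exists_class
    (show 2 * c / (β v v * A μ0) ≠ 0 from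
      div_ne_zero (mul_ne_zero h2 hc0) (mul_ne_zero hH.qv hA0))
  obtain ⟨s, hs⟩ := hD.exists_isK hp.sing (v := lam • v) (by rw [map_smul, huv, smul_zero])
  have hsx : ap s x0 = x0 + (A μ0 * lam) • v - (lam * lam * β v v / 2 * A μ0) • u := by
    rw [hs.2.2, hxu, smul_smul, map_smul, map_smul, LinearMap.map_smul₂, hxv]
    simp [mul_assoc]
  have hμn : μ0 ∉ Lsp u' u' (g⁻¹ * s * g) := fun h => by
    obtain ⟨k, hk⟩ := transport_mem.1 h
    have h' := hplane _ ⟨k, rfl⟩
    rw [psi_apply, hk, ← hx0, hsx] at h'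
    simp [hxv, huv, hA0, hlam, hH.qv] at h'
  refine ⟨g⁻¹ * s * g, ⟨M.mul_mem (M.mul_mem (M.inv_mem hp.mem) ((hM.over hD).mem hs)) hp.mem,
    hp.sing', hp.ne', hp.sing', hp.ne', μ0, hμn⟩,
    Submodule.finrank_mono (le_transport hD.toExt hs), μ0, hμn, ?_⟩
  rw [pairing_apply]
  refine hD.beta_zero_iff.2 fun ν => ?_
  have e' : lam * lam * β v v / 2 * A μ0 = (f⁻¹ : F) • c := by
    rw [Algebra.smul_def, map_inv₀]
    have hfK : algebraMap F K f ≠ 0 := fun e' => hf ((algebraMap F K).injective (by rw [e', map_zero]))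
    rw [Algebra.smul_def] at e
    have := hH.qv
    field_simp at e ⊢
    linear_combination -e
  rw [ap_mul, ap_mul, ap_b_left, inv_inv, ← hx0, hsx, b_sub_left, b_add_left, hx0,
    image_iso hD.toExt hp.sing' g, hD.b_smul, hD.symm v, hplane (ap g (ν • u')) ⟨ν, rfl⟩, e',
    smul_assoc, b_smul_left, hD.b_smul, hD.symm u, show β (ap g (ν • u')) u = A ν from rfl, hc ν]
  simp

/-- Two images meeting in two dimensions give adjacent orthogonal ones. -/
theorem exists_adjacent_three (hT : Turns β M)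
    (hR : ∃ u u' h, Pair β M u u' h ∧ 2 ≤ finrank F (Lsp (K := K) u u' h)) :
    ∃ u u' h, Pair β M u u' h ∧ finrank F (Lsp (K := K) u u' h) + 1 = finrank F K ∧
      ∀ μ, Pairing β u u' h μ = 0 := by
  classical
  obtain ⟨u, u', h, hp, hk⟩ := hR
  suffices H : ∀ n u u' h, finrank F K - finrank F (Lsp (K := K) u u' h) = n → Pair β M u u' h →
      2 ≤ finrank F (Lsp (K := K) u u' h) →
      ∃ u u' h, Pair β M u u' h ∧ finrank F (Lsp (K := K) u u' h) + 1 = finrank F K ∧
        ∀ μ, Pairing β u u' h μ = 0 from H _ u u' h rfl hp hk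
  intro n
  induction n using Nat.strong_induction_on with
  | _ n ih => ?_
  intro u u' h hn hp hk
  have hlt := hp.finrank_lt hD.toExt
  by_cases hz : ∃ μ, μ ∉ Lsp u u' h ∧ Pairing β u u' h μ = 0
  · obtain ⟨μ, hμ, hμ0⟩ := hz
    rcases grow_noninj hD hM hp hk hμ hμ0 with ⟨h', hp', hlt'⟩ | hgoal
    · exact ih _ (by omega) u' u' h' rfl hp' (by omega)
    · exact ⟨u, u', h, hp, hgoal⟩
  push Not at hz
  rcases grow_inj hD hM hT hp hk hz with ⟨h', hp', hlt'⟩ | ⟨h', hp', hle, μ, hμ, hμ0⟩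
  · exact ih _ (by omega) u' u' h' rfl hp' (by omega)
  rcases grow_noninj hD hM hp' (by omega) hμ hμ0 with ⟨h'', hp'', hlt''⟩ | hgoal
  · exact ih _ (by omega) u' u' h'' rfl hp'' (by omega)
  · exact ⟨u', u', h', hp', hgoal⟩

end CfsgLib.OrthExt
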