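import Cfsg.Agent.Lib.Classical.OrthExtField.Three.Alt
import Cfsg.Agent.Lib.Classical.OrthExtField.Three.Grow

set_option autoImplicit false
set_option linter.unusedSectionVars false

/-!
In dimension three over an extension field, an overgroup moving a singular line contains all Siegel
transformations.
-/

namespace CfsgLib.OrthExt

open Module CfsgLib.Orth CfsgLib.Orth.Overfield

variable {F : Type*} [Field F] [Finite F] {ι : Type} [Fintype ι] [DecidableEq ι]
variable {K : Type*} [Field K] [Algebra F K] [Finite K] [Module K (ι → F)]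
  [IsScalarTower F K (ι → F)] [FiniteDimensional F K]
variable {Q : QuadraticForm F (ι → F)} {t : K →ₗ[F] F}
  {β : (ι → F) →ₗ[K] (ι → F) →ₗ[K] K}

local notation "V" => ι → F
local notation "B" => QuadraticMap.polar (DFunLike.coe Q)

variable (hD : Dim3 Q t β) {M : Subgroup (Grp Q)} (hM : Full β M)
include hD hM

omit hM in
/-- A root element from an element moving into a line and an induced transvection of that line. -/
theorem good_of_alt {u : V} {c : Grp Q} (hu : β u u = 0) (hcM : c ∈ M)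
    (hC : ∀ x, ∃ k : K, dev c x = k • u) (hker : ∀ x, β x u = 0 → dev c x = 0)
    (hτ : ∀ (x0 : V) (ℓ : K), B x0 (ℓ • u) = 0 →
      ∃ τ ∈ M, ∀ μ : K, ap τ (μ • u) = μ • u + B (μ • u) x0 • ℓ • u)
    {x0 : V} {ℓ : K} (h : B x0 (ℓ • u) = 0) : GoodAt Q M (ℓ • u) (dev c x0) := by
  set S := Img K u (1 : Grp Q)
  have hiso : ∀ a ∈ S, ∀ b ∈ S, B a b = 0 := fun a ha b hb => img_iso hD hu ha hb
  have hS : ∀ x, dev c x ∈ S := fun x => by
    obtain ⟨k, hk⟩ := hC x
    exact ⟨k, by rw [hk, psi_one]⟩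
  refine ⟨hiso _ ⟨ℓ, psi_one u ℓ⟩ _ (hS x0), fun s g hg => ?_⟩
  have hs : B (s • x0) (ℓ • u) = 0 := by rw [b_smul_left, h, mul_zero]
  obtain ⟨τ, hτM, hτx⟩ := hτ (s • x0) ℓ hs
  obtain ⟨g', hg', hsg⟩ := root_of_conj (e := ℓ • u) (x0 := s • x0) hD.toExt hiso hcM hτM hS
    (fun x hx => hker x (hD.beta_zero_iff.2 fun μ => by
      rw [b_comm]; exact hx _ ⟨μ, psi_one u μ⟩))
    ⟨ℓ, psi_one u ℓ⟩ hs (by
      rintro _ ⟨μ, rfl⟩
      rw [psi_one]
      exact hτx μ)
  rw [map_smul] at hsg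
  rw [siegel_unique hg hsg]
  exact hg'

/-- Adjacent orthogonal images and an element moving into a line give every Siegel
transformation. -/
theorem El_le_of_adjacent {u u' : V} {g : Grp Q} (hp : Pair β M u u' g)
    (hk : finrank F (Lsp (K := K) u u' g) + 1 = finrank F K)
    (hA : ∀ μ, Pairing β u u' g μ = 0) {u0 : V} (hu0 : β u0 u0 = 0) (hu00 : u0 ≠ 0)
    {c0 : Grp Q} (hc0 : c0 ∈ M) (halt : IsAlt β u0 c0) : El Q ≤ M := by
  classical
  have hO := hM.over hD
  have h5 := hD.three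
  obtain ⟨ν, ζ, hν, hζ, hud, hu'd', h2, h3⟩ := adjacent_frame hD.toExt hO hp hk hA
  obtain ⟨w', v', hH'⟩ := hD.exists_hy hp.sing' hp.ne'
  have hperp : ∀ μ : K, β (ap g⁻¹ (μ • u)) u' = 0 := fun μ => hD.beta_zero_iff.2 fun k => by
    rw [ap_b_left, inv_inv, b_comm, hD.b_smul', show β (ap g (k • u')) u = 0 from hA k, mul_zero,
      map_zero]
  set ε := β (ap g⁻¹ (ζ • u)) v'
  have hε : ε ≠ 0 := fun e => by
    have h := hH'.perp hD (hperp ζ)
    rw [show β (ap g⁻¹ (ζ • u)) v' = ε from rfl, e, zero_div, zero_smul, add_zero] at h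
    exact hζ (β (ap g⁻¹ (ζ • u)) w') (by rw [← h, ap_ap_inv])
  obtain ⟨x1, hx1U, hx1ζ⟩ : ∃ x1, (∀ μ : K, B x1 (ap g (μ • u')) = 0) ∧ B x1 (ζ • u) = 1 := by
    have hn : ζ • u ∉ Img K u' g := by
      rintro ⟨μ, hμ⟩
      exact hζ μ hμ.symm
    obtain ⟨f, hf, hker⟩ := Submodule.exists_le_ker_of_notMem hn
    obtain ⟨x1, hx1⟩ := exists_rep_vec hD.nd ((f (ζ • u))⁻¹ • f)
    exact ⟨x1, fun μ => by
      rw [hx1, LinearMap.smul_apply, show f (ap g (μ • u')) = 0 from hker ⟨μ, rfl⟩, smul_zero],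
      by rw [hx1, LinearMap.smul_apply, smul_eq_mul, inv_mul_cancel₀ hf]⟩
  set γ1 := β u x1
  have hγ1 : γ1 ≠ 0 := fun e => by
    rw [b_comm, hD.b_smul, show β u x1 = γ1 from rfl, e, mul_zero, map_zero] at hx1ζ
    exact zero_ne_one hx1ζ
  -- transvections of the line
  have hbase : ∀ ℓ : K, t (ℓ * γ1) = 0 → ∃ τ ∈ M, ∀ μ : K,
      ap τ (μ • u) = μ • u + t (μ * γ1) • ℓ • u := by
    intro ℓ hℓ
    obtain ⟨μ', f, e⟩ := h3 ℓ
    have hf : f = 0 := by
      have h := congrArg (fun y => B x1 y) e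
      simp only [b_add_right, hx1U, b_smul_right, hx1ζ, zero_add, mul_one] at h
      rw [b_comm, hD.b_smul, hℓ] at h
      exact h.symm
    rw [hf, zero_smul, add_zero] at e
    obtain ⟨s, hs⟩ := hD.exists_isK hp.sing' (v := (-μ' / ε) • v') (by
      rw [map_smul, hH'.uv, smul_zero])
    refine ⟨g * s * g⁻¹, M.mul_mem (M.mul_mem hp.mem (hO.mem hs)) (M.inv_mem hp.mem), fun μ => ?_⟩
    obtain ⟨k, f', e'⟩ := h3 μ
    have hf' : f' = t (μ * γ1) := by
      have h := congrArg (fun y => B x1 y) e'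
      simp only [b_add_right, hx1U, b_smul_right, hx1ζ, zero_add, mul_one] at h
      rw [b_comm, hD.b_smul] at h
      exact h.symm
    have hb : β (ap g⁻¹ (μ • u)) v' = f' • ε := by
      rw [e', ap_add, ap_inv_ap, ap_smul, map_add, LinearMap.add_apply, LinearMap.map_smul₂, hH'.uv,
        smul_zero, zero_add, LinearMap.map_smul_of_tower, LinearMap.smul_apply]
    rw [ap_mul, ap_mul, hs.2.2, hperp μ, zero_smul, add_zero, mul_zero, add_zero, ap_sub, ap_ap_inv,
      map_smul, hb, ← hf', e]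
    rw [smul_eq_mul, mul_smul_comm, div_mul_cancel₀ _ hε, smul_neg, neg_smul, ← neg_one_smul F
      ((f' • μ') • u'), ap_smul, neg_one_smul, sub_neg_eq_add, smul_assoc, ap_smul]
  have hτ : ∀ (x0 : V) (ℓ : K), B x0 (ℓ • u) = 0 →
      ∃ τ ∈ M, ∀ μ : K, ap τ (μ • u) = μ • u + B (μ • u) x0 • ℓ • u := by
    intro x0 ℓ h
    rw [b_comm, hD.b_smul] at h
    by_cases hγ : β u x0 = 0
    · exact ⟨1, M.one_mem, fun μ => by rw [ap_one, hD.b_smul, hγ, mul_zero, map_zero, zero_smul, add_zero]⟩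
    obtain ⟨θ, hθ⟩ : ∃ θ, θ = γ1 / β u x0 := ⟨_, rfl⟩
    have hθ0 : θ ≠ 0 := by rw [hθ]; exact div_ne_zero hγ1 hγ
    obtain ⟨f, hf, s, hs, hsl, hsu⟩ := hM.trans hD hp.sing (b := θ • u) (by simp [hp.sing]) hp.ne
      (smul_ne_zero hθ0 hp.ne)
    have hfK : algebraMap F K f ≠ 0 := fun e' => hf ((algebraMap F K).injective (by rw [e', map_zero]))
    obtain ⟨τ, hτM, hτx⟩ := hbase (ℓ / θ) (by
      rw [← h, hθ]; congr 1; field_simp)
    refine ⟨s * τ * s⁻¹, M.mul_mem (M.mul_mem hs hτM) (M.inv_mem hs), fun μ => ?_⟩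
    have hinv : ap s⁻¹ (μ • u) = (μ / (algebraMap F K f * θ)) • u := ap_inj s (by
      rw [ap_ap_inv, hsl, hsu, ← algebraMap_smul K f, smul_smul, smul_smul]
      congr 1
      field_simp)
    rw [ap_mul, ap_mul, hinv, hτx, ap_add, ← hinv, ap_ap_inv, ap_smul, hsl, hsu, hD.b_smul,
      ← algebraMap_smul K f, ← algebraMap_smul K (t _), ← algebraMap_smul K (t (μ * β u x0))]
    simp only [smul_smul]
    congr 2
    have e : t (μ / (algebraMap F K f * θ) * γ1) * f = t (μ * β u x0) := by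
      rw [mul_comm, ← smul_eq_mul, ← map_smul, Algebra.smul_def, hθ]
      congr 1
      field_simp
    have e' : algebraMap F K (t (μ / (algebraMap F K f * θ) * γ1)) * algebraMap F K f =
        algebraMap F K (t (μ * β u x0)) :=
      (map_mul (algebraMap F K) _ _).symm.trans (congrArg _ e)
    rw [← e']
    field_simp
  -- the element moving into this line
  obtain ⟨f, hf, s, hs, hsl, hsu⟩ := hM.trans hD hu0 hp.sing hu00 hp.ne
  obtain ⟨c, hcd⟩ : ∃ c, c = s * c0 * s⁻¹ := ⟨_, rfl⟩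
  have hcM : c ∈ M := hcd ▸ M.mul_mem (M.mul_mem hs hc0) (M.inv_mem hs)
  have hdev : ∀ x, dev c x = ap s (dev c0 (ap s⁻¹ x)) := fun x => by
    rw [dev_apply, dev_apply, hcd, ap_mul, ap_mul, ap_sub, ap_ap_inv]
  have hC : ∀ x, ∃ k : K, dev c x = k • u := fun x => by
    obtain ⟨k, hk⟩ := halt.2.1 (ap s⁻¹ x)
    exact ⟨k * algebraMap F K f, by rw [hdev, hk, hsl, hsu, ← smul_smul, algebraMap_smul]⟩
  have hker : ∀ x, β x u = 0 → dev c x = 0 := fun x hx => by
    rw [hdev, halt.2.2 _ ?_, ap_zero]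
    rw [← hD.beta_ap hsl, ap_ap_inv, hsu, LinearMap.map_smul_of_tower, hx, smul_zero]
  obtain ⟨x0, hx0⟩ : ∃ x0, dev c x0 ≠ 0 := by
    by_contra hc
    push Not at hc
    refine halt.1 (ext_ap fun x => ?_)
    have h := hdev (ap s x)
    rw [hc, ap_inv_ap] at h
    rw [ap_one, ap_eq_dev, show dev c0 x = 0 from ap_inj s (h.symm.trans (ap_zero s).symm), add_zero]
  obtain ⟨ξ, hξ⟩ := hC x0
  have hξ0 : ξ ≠ 0 := fun e => hx0 (by rw [hξ, e, zero_smul])
  have hskew : B x0 (ξ • u) = 0 := by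
    have h := ap_q c x0
    rw [ap_eq_dev, hξ, q_add, hD.sing_smul hp.sing, add_zero, add_eq_left] at h
    exact h
  set γ0 := β u x0
  obtain ⟨μe, hμe, hμeξ⟩ : ∃ μe : K, t (μe * γ0) = 0 ∧ μe ∉ Submodule.span F {ξ} := by
    set L : K →ₗ[F] F := t ∘ₗ LinearMap.mulRight F γ0
    by_contra hc
    push Not at hc
    have hle : LinearMap.ker L ≤ Submodule.span F {ξ} := fun x hx => hc x hx
    have a1 := LinearMap.finrank_range_add_finrank_ker L
    have a2 := Submodule.finrank_le (LinearMap.range L)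
    rw [Module.finrank_self] at a2
    have a3 := (Submodule.finrank_mono hle).trans (finrank_span_singleton (K := F) hξ0).le
    omega
  have he0 : B x0 (μe • u) = 0 := by rw [b_comm, hD.b_smul]; exact hμe
  have hsing : ∀ k : K, Q (k • u) = 0 := fun k => hD.sing_smul hp.sing k
  have hbU : ∀ a b : K, B (a • u) (b • u) = 0 := fun a b => by
    rw [hD.b_smul, map_smul, hp.sing, smul_zero, mul_zero, map_zero]
  have hg1 : ∀ k : K, B x0 (k • u) = 0 → GoodAt Q M (ξ • u) (k • u) := fun k hk => by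
    have h := good_of_alt hD hp.sing hcM hC hker hτ hk
    rw [hξ] at h
    exact goodAt_symm (hsing _) (hsing _) h
  have hge := goodAt_symm (hsing _) (hsing _) (hg1 μe he0)
  obtain ⟨r1, hr1⟩ := exists_siegel hD.nd (hsing μe) hge.1
  have hr1M : r1 ∈ M := hge.2 1 r1 (by rwa [one_smul])
  have hdev1 : ∀ x, dev r1 x = B x (μe • u) • ξ • u - B x (ξ • u) • μe • u := fun x => by
    rw [dev_apply, hr1.2.2, hsing, zero_mul, zero_smul, sub_zero]
    abel
  have hC1 : ∀ x, ∃ k : K, dev r1 x = k • u := fun x =>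
    ⟨B x (μe • u) • ξ - B x (ξ • u) • μe, by rw [hdev1, sub_smul, smul_assoc, smul_assoc]⟩
  have hker1 : ∀ x, β x u = 0 → dev r1 x = 0 := fun x hx => by
    rw [hdev1, hD.b_smul', hD.b_smul', hx]; simp
  obtain ⟨x2, hx2ξ, hx2e⟩ : ∃ x2, B x2 (ξ • u) = 0 ∧ B x2 (μe • u) = 1 := by
    have hn : μe • u ∉ Submodule.span F {ξ • u} := fun h => hμeξ (by
      obtain ⟨a, ha⟩ := Submodule.mem_span_singleton.1 h
      rw [← smul_assoc] at ha
      exact Submodule.mem_span_singleton.2 ⟨a, smul_left_injective K hp.ne ha⟩)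
    obtain ⟨φ, hφ, hle⟩ := Submodule.exists_le_ker_of_notMem hn
    obtain ⟨x2, hx2⟩ := exists_rep_vec hD.nd ((φ (μe • u))⁻¹ • φ)
    exact ⟨x2, by rw [hx2, LinearMap.smul_apply,
      show φ (ξ • u) = 0 from hle (Submodule.mem_span_singleton_self _), smul_zero],
      by rw [hx2, LinearMap.smul_apply, smul_eq_mul, inv_mul_cancel₀ hφ]⟩
  have hall : ∀ k : K, GoodAt Q M (ξ • u) (k • u) := by
    intro k
    set a := B x2 (k • u)
    have e : k • u = (k - a • μe) • u + a • μe • u := by rw [sub_smul, smul_assoc, sub_add_cancel]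
    rw [e]
    refine goodAt_add hD.nd (hsing _) ?_ (goodAt_smul (hg1 μe he0) a)
    have h : B x2 ((k - a • μe) • u) = 0 := by
      rw [sub_smul, smul_assoc, b_sub_right, b_smul_right, hx2e, mul_one, sub_self]
    have hg := good_of_alt hD hp.sing hr1M hC1 hker1 hτ h
    rw [hdev1, hx2e, hx2ξ, one_smul, zero_smul, sub_zero] at hg
    exact goodAt_symm (hsing _) (hsing _) hg
  have hline : ∀ y : V, β y y = 0 → y ≠ 0 → ∀ k : K, GoodAt Q M y (k • y) := by
    intro y hy hy0 k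
    obtain ⟨f, hf, s, hs, hsl, hse⟩ := hM.trans hD (a := ξ • u) (by simp [hp.sing]) hy
      (smul_ne_zero hξ0 hp.ne) hy0
    have h := goodAt_conj hs (hall (k * ξ))
    rw [← smul_smul, hsl k, hse, smul_comm] at h
    have q1 : Q (f • k • y) = 0 := by rw [q_smul, hD.sing_smul hy, mul_zero]
    have q2 : Q (f • y) = 0 := by rw [q_smul, hD.sing hy, mul_zero]
    have h1 := goodAt_smul (goodAt_symm q2 q1 h) f⁻¹
    rw [smul_smul, inv_mul_cancel₀ hf, one_smul] at h1
    have h2 := goodAt_smul (goodAt_symm q1 (hD.sing hy) h1) f⁻¹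
    rwa [smul_smul, inv_mul_cancel₀ hf, one_smul] at h2
  have hwide : ∀ p : V, β p p = 0 → p ≠ 0 → ∀ x, B p x = 0 → GoodAt Q M p x := by
    intro p hpp hp0 x hx
    refine good_of_rad hD.toExt (hD.sing hpp) fun z hz => ?_
    obtain ⟨a, rfl⟩ := rad_eq_point hD.toExt (by omega) hpp hp0 hline hz
    rw [b_smul_left, hx, mul_zero]
  obtain ⟨w, hw, huw⟩ := hD.exists_mate hp.sing hp.ne
  obtain ⟨k, hk'⟩ : ∃ k, t k ≠ 0 := by
    by_contra hc
    push Not at hc
    exact hD.t_ne (LinearMap.ext hc)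
  have hw0 : w ≠ 0 := fun e => one_ne_zero (α := K) (by rw [← huw, e, map_zero])
  have hk0 : k ≠ 0 := fun e => hk' (by rw [e, map_zero])
  have hfw : β (k • w) (k • w) = 0 := by simp [hw]
  refine El_le_of_two hD.nd (hD.sing hp.sing) (hD.sing hfw) (f := k • w) ?_ ?_ ?_
  · rw [hD.b_smul', huw, mul_one]; exact hk'
  · intro v s hs
    exact (hwide u hp.sing hp.ne v hs.2.1).2 1 s (by rwa [one_smul])
  · intro v s hs
    exact (hwide _ hfw (smul_ne_zero hk0 hw0) v hs.2.1).2 1 s (by rwa [one_smul])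

/-- An overgroup inside `Ω` moving a singular line contains all Siegel transformations. -/
theorem El_le_three (hΩ : M ≤ Cfsg.Omega F ⇑Q) {g : Grp Q} (hg : g ∈ M) {a : V} (ha : β a a = 0)
    (hmove : ∃ μ : K, ∀ k : K, ap g (μ • a) ≠ k • ap g a) : El Q ≤ M := by
  classical
  have ha0 : a ≠ 0 := fun e => by
    obtain ⟨μ, hμ⟩ := hmove
    exact hμ 0 (by rw [e]; simp)
  rcases rich_of_moved hD hM hg ha ha0 hmove with hEl | ⟨u, u', h, hp, hk⟩
  · exact hEl
  obtain ⟨c, hc, halt⟩ := exists_alt hD hM hΩ hp hk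
  obtain ⟨w, v0, hH⟩ := hD.exists_hy hp.sing hp.ne
  obtain ⟨D, hDt⟩ := hD.exists_turn hH.qv
  have hD2 := hDt.sq hD
  have hDl : IsLinK K D := hDt.lin hD
  have hDD : ∀ m, D * (D * m * D) * D = m := fun m => by
    rw [show D * (D * m * D) * D = (D * D) * m * (D * D) by simp only [mul_assoc], hD2, one_mul, mul_one]
  let M0 : Subgroup (Grp Q) :=
    { carrier := {m | m ∈ M ∧ D * m * D ∈ M}
      one_mem' := ⟨M.one_mem, by rw [mul_one, hD2]; exact M.one_mem⟩
      mul_mem' := fun {x y} hx hy => ⟨M.mul_mem hx.1 hy.1, by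
        have h := M.mul_mem hx.2 hy.2
        rwa [show D * x * D * (D * y * D) = D * x * (D * D) * y * D by simp only [mul_assoc], hD2,
          mul_one, mul_assoc D x y] at h⟩
      inv_mem' := fun {x} hx => ⟨M.inv_mem hx.1, by
        have h := M.inv_mem hx.2
        rwa [mul_inv_rev, mul_inv_rev, inv_eq_of_mul_eq_one_right hD2, ← mul_assoc] at h⟩ }
  have hM0 : ∀ {m}, m ∈ M0 → D * m * D ∈ M0 := fun {m} hm => ⟨hm.2, by rw [hDD]; exact hm.1⟩
  let Mp : Subgroup (Grp Q) :=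
    { carrier := {x | x ∈ M0 ∨ x * D ∈ M0}
      one_mem' := Or.inl M0.one_mem
      mul_mem' := fun {x y} hx hy => by
        rcases hx with hx | hx <;> rcases hy with hy | hy
        · exact Or.inl (M0.mul_mem hx hy)
        · exact Or.inr (by rw [mul_assoc]; exact M0.mul_mem hx hy)
        · exact Or.inr (by
            have h := M0.mul_mem hx (hM0 hy)
            rwa [show x * D * (D * y * D) = x * (D * D) * y * D by simp only [mul_assoc], hD2,
              mul_one] at h)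
        · exact Or.inl (by
            have h := M0.mul_mem hx (hM0 hy)
            rwa [show x * D * (D * (y * D) * D) = x * (D * D) * y * (D * D) by simp only [mul_assoc],
              hD2, mul_one, mul_one] at h)
      inv_mem' := fun {x} hx => by
        rcases hx with hx | hx
        · exact Or.inl (M0.inv_mem hx)
        · refine Or.inr ?_
          have h := hM0 (M0.inv_mem hx)
          rwa [mul_inv_rev, inv_eq_of_mul_eq_one_right hD2, show D * (D * x⁻¹) * D = (D * D) * x⁻¹ * D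
            by simp only [mul_assoc], hD2, one_mul] at h }
  have hDinv : D⁻¹ = D := inv_eq_of_mul_eq_one_right hD2
  have hfull : Full β Mp := ⟨fun x hx hl => Or.inl ⟨hM.mem x hx hl, hM.mem _ (by
    haveI : (Cfsg.Omega F ⇑Q).Normal := by
      rw [omega_eq_El hD.nd (by have := hD.card_ge; omega)]; infer_instance
    have h := Subgroup.Normal.conj_mem inferInstance x hx D
    rwa [hDinv] at h) ((hDl.mul hl).mul hDl)⟩⟩
  have hturns : Turns β Mp := by
    intro u1 w1 e g1 h1 hg1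
    obtain ⟨f, hf, s, hs, hsl, hsu⟩ := hfull.trans hD hp.sing h1.uu hp.ne (fun e => one_ne_zero
      (α := K) (by rw [← h1.uw, e]; simp))
    have hperp : β (ap s v0) u1 = 0 := by
      have h := hD.beta_ap hsl v0 u
      rw [hsu, hD.symm v0 u, hH.uv, LinearMap.map_smul_of_tower, smul_eq_zero] at h
      exact h.resolve_left hf
    obtain ⟨al, b, hsv⟩ : ∃ al b : K, ap s v0 = al • u1 + b • e := ⟨_, _, h1.perp hD hperp⟩
    have hb : b ≠ 0 := fun e' => hH.qv (by
      rw [← hD.beta_ap hsl, hsv, e', zero_smul, add_zero]; simp [h1.uu])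
    obtain ⟨T, hT⟩ := hD.exists_isK h1.uu (v := (al / (b * β e e)) • e) (by
      rw [map_smul, h1.uv, smul_zero])
    have hTs : ap (T * s) v0 = b • e := by
      rw [ap_mul, hsv, hT.2.2]
      simp only [map_add, map_smul, LinearMap.add_apply, LinearMap.smul_apply, smul_eq_mul, h1.uu,
        h1.uv, hD.symm e u1]
      have := h1.qv
      match_scalars <;> field_simp <;> ring
    have hTsM : T * s ∈ Mp := Mp.mul_mem ((hfull.over hD).mem hT) hs
    have hh := hDt.conj hD (s := T * s) (IsLinK.mul (hD.isK_lin hT) hsl)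
    rw [hTs] at hh
    have hDMp : D ∈ Mp := Or.inr (by rw [hD2]; exact M0.one_mem)
    rw [hg1.unique hD hb hh]
    exact Mp.mul_mem (Mp.mul_mem hTsM hDMp) (Mp.inv_mem hTsM)
  have hDc : D * c * D = c := ext_ap fun x => by
    obtain ⟨ka, kb, kc, rfl⟩ : ∃ ka kb kc : K, x = ka • u + kb • w + kc • v0 :=
      ⟨_, _, _, hH.expand hD x⟩
    have hDu : ∀ k : K, ap D (k • u) = -(k • u) := fun k => hDt.apply_perp hD (by simp [hH.uv])
    have hDw : ∀ k : K, ap D (k • w) = -(k • w) := fun k => hDt.apply_perp hD (by simp [hH.wv])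
    have hDv : ∀ k : K, ap D (k • v0) = k • v0 := fun k => by rw [hDl, hDt.apply_self hD]
    have hcu : ∀ k : K, dev c (k • u) = 0 := fun k => halt.2.2 _ (by simp [hp.sing])
    have hcv : ∀ k : K, dev c (k • v0) = 0 := fun k => halt.2.2 _ (by simp [hD.symm v0 u, hH.uv])
    obtain ⟨k, hk⟩ := halt.2.1 (kb • w)
    have hn : ∀ (r : Grp Q) (y : V), ap r (-y) = -ap r y := fun r y => by
      rw [← neg_one_smul F y, ap_smul, neg_one_smul]
    simp only [ap_mul, ap_add, hn, hDu, hDw, hDv, ap_eq_dev c, map_add, map_neg, hcu, hcv, hk,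
      neg_zero, zero_add, add_zero, neg_neg]
    abel
  have hcMp : c ∈ Mp := Or.inl ⟨hc, by rw [hDc]; exact hc⟩
  have hw0 : w ≠ 0 := fun e => one_ne_zero (α := K) (by rw [← hH.uw, e, map_zero])
  obtain ⟨ν, hν0, hmove2⟩ : ∃ ν : K, ν ≠ 0 ∧
      ∃ μ : K, ∀ k : K, ap c (μ • ν • w) ≠ k • ap c (ν • w) := by
    by_contra hcon
    push Not at hcon
    obtain ⟨k1, hk1⟩ := halt.2.1 w
    have hlin : ∀ μ : K, dev c (μ • w) = μ • dev c w := fun μ => by
      obtain ⟨k, hk⟩ := hcon 1 one_ne_zero μ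
      rw [one_smul] at hk
      obtain ⟨k2, hk2⟩ := halt.2.1 (μ • w)
      rw [ap_eq_dev, ap_eq_dev, hk2, hk1, smul_add] at hk
      have h := congrArg (β u) hk
      simp only [map_add, map_smul, smul_eq_mul, hH.uu, hH.uw, mul_zero, add_zero, mul_one] at h
      rw [h, add_right_inj] at hk
      rw [hk2, hk1, h]
      exact hk
    refine halt.1 (ext_ap fun x => ?_)
    have hk0 : k1 = 0 := by
      refine hD.t_zero fun μ => ?_
      have h := ap_b c (μ • w) w
      rw [ap_eq_dev, ap_eq_dev, hlin, hk1, smul_smul, b_add_left, b_add_right, b_add_right] at h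
      simp only [hD.b_smul, hD.b_smul', map_smul, LinearMap.map_smul₂, smul_eq_mul, hH.uu, hH.uw,
        hD.symm w u, hH.ww, mul_one, mul_zero, map_zero, zero_add, add_zero] at h
      rw [← two_mul] at h
      exact (mul_eq_zero.1 h).resolve_left hD.two
    have hw : ∀ μ : K, dev c (μ • w) = 0 := fun μ => by
      rw [hlin, hk1, hk0, zero_smul, smul_zero]
    rw [ap_eq_dev, ap_one, hH.expand hD x, map_add, map_add, hw,
      halt.2.2 _ (show β (β x w • u) u = 0 by simp [hp.sing]),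
      halt.2.2 _ (show β ((β x v0 / β v0 v0) • v0) u = 0 by simp [hD.symm v0 u, hH.uv])]
    abel
  have hR := rich_of_moved hD hfull (a := ν • w) hcMp (by simp [hH.ww]) (smul_ne_zero hν0 hw0) hmove2
  have hEl : El Q ≤ Mp := by
    rcases hR with hEl | hR'
    · exact hEl
    obtain ⟨u1, u1', h1, hp1, hk1, hA1⟩ := exists_adjacent_three hD hfull hturns hR'
    exact El_le_of_adjacent hD hfull hp1 hk1 hA1 hp.sing hp.ne hcMp halt
  refine (Subgroup.closure_le _).2 ?_
  rintro x ⟨a1, v1, hx⟩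
  obtain ⟨y, hy⟩ := exists_siegel hD.nd hx.1 (v := (2 : F)⁻¹ • v1) (by
    rw [b_smul_right, hx.2.1, mul_zero])
  have hyy := siegel_mul hy hy
  rw [← add_smul, ← two_mul, mul_inv_cancel₀ hD.two, one_smul] at hyy
  rw [siegel_unique hx hyy]
  rcases hEl (siegel_mem_El hy) with hy' | hy'
  · exact M.mul_mem hy'.1 hy'.1
  · have h := (M0.mul_mem hy' (hM0 hy')).1
    rwa [show y * D * (D * (y * D) * D) = y * (D * D) * y * (D * D) by simp only [mul_assoc], hD2,
      mul_one, mul_one] at h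

end CfsgLib.OrthExt
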