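import Cfsg.Agent.Lib.Classical.OrthExtField.Three.Cent
import Cfsg.Agent.Lib.Classical.OrthExtField.Spread
import Mathlib.LinearAlgebra.Matrix.Determinant.Basic
import Mathlib.RingTheory.Norm.Basic

set_option autoImplicit false
set_option linter.unusedSectionVars false

/-!
In dimension three over an extension of degree three: one element moving into a line gives all the
root elements of the lines, and so does an involution of an image of a line that is not a scalar.
-/

namespace CfsgLib.OrthExt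

open Module CfsgLib.Orth CfsgLib.Orth.Overfield

variable {F : Type*} [Field F] [Finite F] {ι : Type} [Fintype ι] [DecidableEq ι]
variable {K : Type*} [Field K] [Algebra F K] [Finite K] [Module K (ι → F)]
  [IsScalarTower F K (ι → F)] [FiniteDimensional F K]
variable {Q : QuadraticForm F (ι → F)} {t : K →ₗ[F] F}
  {β : (ι → F) →ₗ[K] (ι → F) →ₗ[K] K}

local notation "V" => ι → F
local notation "B" => QuadraticMap.polar (DFunLike.coe Q)

/-- Fixing the orthogonal of a line and moving into that line. -/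
def Flat (β : (ι → F) →ₗ[K] (ι → F) →ₗ[K] K) (u : ι → F) (g : Grp Q) : Prop :=
  (∀ x, ∃ k : K, dev g x = k • u) ∧ ∀ x, β x u = 0 → dev g x = 0

/-- The map of the parameters given by an element moving into a line. -/
def flatMap (β : (ι → F) →ₗ[K] (ι → F) →ₗ[K] K) (w : ι → F) (g : Grp Q) : K →ₗ[F] K :=
  (β.flip w).restrictScalars F ∘ₗ dev g ∘ₗ
    (LinearMap.toSpanSingleton K (ι → F) w).restrictScalars F

omit [Finite F] [Finite K] [FiniteDimensional F K] in
theorem flatMap_apply (w : V) (g : Grp Q) (α : K) :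
    flatMap β w g α = β (dev g (α • w)) w := rfl

variable (hD : Dim3 Q t β)
include hD

/-- The line lemma: root elements of all lines give everything. -/
theorem El_le_of_line {M : Subgroup (Grp Q)}
    (hline : ∀ y : V, β y y = 0 → y ≠ 0 → ∀ k : K, GoodAt Q M y (k • y)) {u : V} (hu : β u u = 0)
    (hu0 : u ≠ 0) : El Q ≤ M := by
  classical
  have h3 := hD.three
  have hwide : ∀ p : V, β p p = 0 → p ≠ 0 → ∀ x, B p x = 0 → GoodAt Q M p x := by
    intro p hpp hp0 x hx
    refine good_of_rad hD.toExt (hD.sing hpp) fun z hz => ?_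
    obtain ⟨a, rfl⟩ := rad_eq_point hD.toExt h3 hpp hp0 hline hz
    rw [b_smul_left, hx, mul_zero]
  obtain ⟨w, hw, huw⟩ := hD.exists_mate hu hu0
  obtain ⟨k, hk'⟩ : ∃ k, t k ≠ 0 := by
    by_contra hc
    push Not at hc
    exact hD.t_ne (LinearMap.ext hc)
  have hw0 : w ≠ 0 := fun e => one_ne_zero (α := K) (by rw [← huw, e, map_zero])
  have hk0 : k ≠ 0 := fun e => hk' (by rw [e, map_zero])
  have hfw : β (k • w) (k • w) = 0 := by simp [hw]
  refine El_le_of_two hD.nd (hD.sing hu) (hD.sing hfw) (f := k • w) ?_ ?_ ?_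
  · rw [hD.b_smul', huw, mul_one]; exact hk'
  · intro v s hs
    exact (hwide u hu hu0 v hs.2.1).2 1 s (by rwa [one_smul])
  · intro v s hs
    exact (hwide _ hfw (smul_ne_zero hk0 hw0) v hs.2.1).2 1 s (by rwa [one_smul])

/-- Multiplication of a singular vector by a square, inside the group. -/
theorem Full.exists_scale {M : Subgroup (Grp Q)} (hM : Full β M) {u w v0 : V} (hH : Hy β u w v0)
    {ν : K} (hν : ν ≠ 0) : ∃ s ∈ M, IsLinK K s ∧ ap s u = (ν * ν) • u := by
  have hq : ∀ k : K, k ≠ 0 → β (k • u + w) (k • u + w) ≠ 0 := fun k hk => by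
    simpa [hH.uu, hH.ww, hH.uw, hD.symm w u, ← two_mul, hD.twoK] using hk
  obtain ⟨r1, h1⟩ := hD.exists_turn (hq 1 one_ne_zero)
  obtain ⟨r2, h2⟩ := hD.exists_turn (hq ν hν)
  have e1 : ap r1 u = w := by
    rw [h1.2]
    simp [hH.uu, hH.ww, hH.uw, hD.symm w u, ← two_mul, hD.twoK]
  have e2 : ap r2 w = ν • u := by
    rw [h2.2]
    simp [hH.uu, hH.ww, hH.uw, hD.symm w u, ← two_mul, hD.twoK, hν]
  have hl : IsLinK K (r2 * r1) := (h2.lin hD).mul (h1.lin hD)
  refine ⟨r2 * r1 * (r2 * r1), hM.sq_mem hD hl, hl.mul hl, ?_⟩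
  have e : ap (r2 * r1) u = ν • u := by rw [ap_mul, e1, e2]
  rw [ap_mul, e, hl, e, smul_smul]

section line

variable {u w v0 : ι → F} (hH : Hy β u w v0)
include hH

theorem Flat.dev_eq {g : Grp Q} (hg : Flat β u g) (x : V) :
    dev g x = flatMap β w g (β x u) • u := by
  have e : dev g x = dev g (β x u • w) := by
    rw [← sub_eq_zero, ← map_sub]
    refine hg.2 _ ?_
    rw [map_sub, LinearMap.sub_apply, LinearMap.map_smul₂, hD.symm w u, hH.uw, smul_eq_mul, mul_one,
      sub_self]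
  obtain ⟨k, hk⟩ := hg.1 (β x u • w)
  rw [e, hk, flatMap_apply, hk, LinearMap.map_smul₂, hH.uw, smul_eq_mul, mul_one]

theorem Flat.dev_self {g : Grp Q} (hg : Flat β u g) (k : K) : dev g (k • u) = 0 :=
  hg.2 _ (by rw [LinearMap.map_smul₂, hH.uu, smul_zero])

theorem Flat.mul {g h : Grp Q} (hg : Flat β u g) (hh : Flat β u h) :
    Flat β u (g * h) ∧ ∀ α, flatMap β w (g * h) α = flatMap β w g α + flatMap β w h α := by
  have e : ∀ x, dev (g * h) x = dev g x + dev h x := fun x => by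
    obtain ⟨k, hk⟩ := hh.1 x
    rw [dev_apply, ap_mul, ap_eq_dev h, ap_eq_dev g, map_add, hk, hg.dev_self hD hH, add_zero]
    abel
  refine ⟨⟨fun x => ?_, fun x hx => by rw [e, hg.2 x hx, hh.2 x hx, add_zero]⟩, fun α => ?_⟩
  · obtain ⟨k, hk⟩ := hg.1 x
    obtain ⟨l, hl⟩ := hh.1 x
    exact ⟨k + l, by rw [e, hk, hl, add_smul]⟩
  · rw [flatMap_apply, e, map_add, LinearMap.add_apply]; rfl

theorem Flat.eq_of_map {g h : Grp Q} (hg : Flat β u g) (hh : Flat β u h)
    (e : ∀ α, flatMap β w g α = flatMap β w h α) : g = h :=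
  ext_ap fun x => by rw [ap_eq_dev, ap_eq_dev, hg.dev_eq hD hH, hh.dev_eq hD hH, e]

theorem Flat.skew {g : Grp Q} (hg : Flat β u g) (α γ : K) :
    t (flatMap β w g α * γ) + t (flatMap β w g γ * α) = 0 := by
  have h := ap_b g (α • w) (γ • w)
  rw [ap_eq_dev, ap_eq_dev, hg.dev_eq hD hH, hg.dev_eq hD hH, b_add_left, b_add_right,
    b_add_right] at h
  simp only [hD.b_smul, map_smul, LinearMap.smul_apply, smul_eq_mul, hD.symm w u, hH.uw, hH.uu,
    hH.ww, mul_one, mul_zero, map_zero, zero_add, add_zero] at h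
  rw [mul_comm α, add_comm] at h
  exact h

theorem Flat.conj {g s : Grp Q} (hg : Flat β u g) (hs : IsLinK K s) {ν : K} (hν : ν ≠ 0)
    (hsu : ap s u = ν • u) : Flat β u (s⁻¹ * g * s) ∧
      ∀ α, flatMap β w (s⁻¹ * g * s) α = ν⁻¹ * flatMap β w g (ν⁻¹ * α) := by
  have hinv : ap s⁻¹ u = ν⁻¹ • u := ap_inj s (by
    rw [ap_ap_inv, hs, hsu, smul_smul, inv_mul_cancel₀ hν, one_smul])
  have hb : ∀ x, β (ap s x) u = ν⁻¹ * β x u := fun x => by
    have h := hD.beta_ap hs x u
    rw [hsu, map_smul, smul_eq_mul] at h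
    rw [← h, inv_mul_cancel_left₀ hν]
  have e : ∀ x, dev (s⁻¹ * g * s) x = (ν⁻¹ * flatMap β w g (ν⁻¹ * β x u)) • u := fun x => by
    rw [dev_apply, ap_mul, ap_mul, ap_eq_dev g, hg.dev_eq hD hH, hb, ap_add, ap_inv_ap,
      hs.inv, hinv, smul_smul, add_sub_cancel_left, mul_comm (flatMap β w g _)]
  refine ⟨⟨fun x => ⟨_, e x⟩, fun x hx => by rw [e, hx]; simp⟩, fun α => ?_⟩
  rw [flatMap_apply, e, LinearMap.map_smul₂, LinearMap.map_smul₂, hH.uw, hD.symm w u, hH.uw,
    smul_eq_mul, smul_eq_mul, mul_one, mul_one]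

end line

omit hD in
/-- The volume form in coordinates. -/
noncomputable def vol (b : Basis (Fin 3) F K) (n α γ : K) : F :=
  (Matrix.of ![⇑(b.repr n), ⇑(b.repr α), ⇑(b.repr γ)]).det

omit hD [Finite F] [Finite K] [FiniteDimensional F K] in
theorem vol_eq (b : Basis (Fin 3) F K) (n α γ : K) :
    vol b n α γ = b.repr n 0 * (b.repr α 1 * b.repr γ 2 - b.repr α 2 * b.repr γ 1)
      + b.repr n 1 * (b.repr α 2 * b.repr γ 0 - b.repr α 0 * b.repr γ 2)
      + b.repr n 2 * (b.repr α 0 * b.repr γ 1 - b.repr α 1 * b.repr γ 0) := by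
  rw [vol, Matrix.det_fin_three]
  simp only [Matrix.of_apply, Matrix.cons_val_zero, Matrix.cons_val_one, Matrix.cons_val]
  ring

omit hD [Finite F] [Finite K] in
theorem vol_mul (b : Basis (Fin 3) F K) (μ n α γ : K) :
    vol b (μ * n) (μ * α) (μ * γ) = Algebra.norm F μ * vol b n α γ := by
  have e : ∀ n α γ : K, vol b n α γ = b.det ![n, α, γ] := fun n α γ => by
    rw [Basis.det_apply, vol, ← Matrix.det_transpose]
    congr 1
    ext i j
    fin_cases i <;> fin_cases j <;> simp [Basis.toMatrix_apply]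
  rw [e, e, Algebra.norm_apply, ← Basis.det_comp]
  congr 1
  funext i
  fin_cases i <;> simp

/-- The degree three sub-rings of an extension with many elements. -/
theorem Dim3.norm_span (hr : finrank F K = 3) (S : Subring K)
    (hS : ∀ ν : K, ν ≠ 0 → Algebra.norm F (ν * ν) • (ν * ν)⁻¹ ∈ S) (k : K) : k ∈ S := by
  classical
  letI : Fintype K := Fintype.ofFinite K
  let S' : Subfield K :=
    { S with
      inv_mem' := fun x hx => by
        by_cases hx0 : x = 0
        · rw [hx0, inv_zero]; exact S.zero_mem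
        have h2 : 1 < Fintype.card K := Fintype.one_lt_card
        have h := FiniteField.pow_card_sub_one_eq_one x hx0
        rw [show Fintype.card K - 1 = Fintype.card K - 2 + 1 by omega, pow_succ] at h
        rw [inv_eq_of_mul_eq_one_left h]
        exact S.pow_mem hx _ }
  have hnorm : ∀ ν : Kˣ, Algebra.norm F ((ν : K) * ν) ≠ 0 := fun ν =>
    Algebra.norm_ne_zero_iff.2 (mul_ne_zero ν.ne_zero ν.ne_zero)
  let ψ : Kˣ →* Kˣ :=
    { toFun := fun ν => Units.map (algebraMap F K : F →* K) (Units.mk0 _ (hnorm ν)) * (ν * ν)⁻¹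
      map_one' := by ext; simp
      map_mul' := fun a b => by ext; simp; ring }
  have hker : ψ.ker ≤ ((powMonoidHom 4 : Fˣ →* Fˣ).ker).map
      (Units.map (algebraMap F K : F →* K)) := by
    intro ν hν
    have h : algebraMap F K (Algebra.norm F ((ν : K) * ν)) = (ν : K) * ν := by
      have h1 : Units.map (algebraMap F K : F →* K) (Units.mk0 _ (hnorm ν)) * (ν * ν)⁻¹ = 1 := hν
      exact congrArg Units.val (mul_inv_eq_one.1 h1)
    set N := Algebra.norm F (ν : K) with hN
    rw [map_mul, map_mul, mul_self_eq_mul_self_iff] at h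
    obtain ⟨f, hf⟩ : ∃ f : F, algebraMap F K f = ν := by
      rcases h with h | h
      · exact ⟨N, h⟩
      · exact ⟨-N, by rw [map_neg, h, neg_neg]⟩
    have hN' : N = f ^ 3 := by rw [hN, ← hf, Algebra.norm_algebraMap, hr]
    have hf0 : f ≠ 0 := fun e => ν.ne_zero (by rw [← hf, e, map_zero])
    have h' : algebraMap F K (N * N) = algebraMap F K (f * f) := by
      rw [map_mul, map_mul, hf, mul_self_eq_mul_self_iff]; exact h
    refine Subgroup.mem_map.2 ⟨Units.mk0 f hf0, ?_, Units.ext (by simpa using hf)⟩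
    rw [MonoidHom.mem_ker, powMonoidHom_apply]
    refine Units.ext ?_
    have h'' := (algebraMap F K).injective h'
    rw [hN'] at h''
    simp only [Units.val_pow_eq_pow_val, Units.val_mk0, Units.val_one]
    refine mul_left_cancel₀ (mul_ne_zero hf0 hf0) ?_
    linear_combination h''
  have h4 : Nat.card ψ.ker ≤ 4 := by
    refine (Nat.card_le_card_of_injective _ (Subgroup.inclusion_injective hker)).trans ?_
    rw [← Nat.card_congr (Subgroup.equivMapOfInjective _ _
      (Units.map_injective (f := (algebraMap F K : F →* K)) (algebraMap F K).injective)).toEquiv]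
    letI : Fintype Fˣ := Fintype.ofFinite _
    have h := IsCyclic.card_pow_eq_one_le (α := Fˣ) (n := 4) (by norm_num)
    rw [Nat.card_eq_fintype_card]
    refine le_trans (le_of_eq ?_) h
    rw [Fintype.card_subtype]
    simp [MonoidHom.mem_ker]
  have hrange : Nat.card ψ.range + 1 ≤ Nat.card S' := by
    have h : Function.Injective fun o : Option ψ.range =>
        (match o with
        | none => (0 : S')
        | some x => ⟨((x : Kˣ) : K), by
            obtain ⟨ν, hν⟩ := MonoidHom.mem_range.1 x.2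
            have := hS ν ν.ne_zero
            rw [← hν]
            simpa [ψ, Algebra.smul_def, S'] using this⟩) := by
      intro o o' e
      rcases o with _ | x <;> rcases o' with _ | y
      · rfl
      · exact absurd (congrArg Subtype.val e).symm (Units.ne_zero _)
      · exact absurd (congrArg Subtype.val e) (Units.ne_zero _)
      · exact congrArg some (Subtype.ext (Units.ext (congrArg Subtype.val e :)))
    have h' := Nat.card_le_card_of_injective _ h
    rwa [Finite.card_option] at h'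
  have hcard : Nat.card ψ.ker * Nat.card ψ.range = Nat.card K - 1 := by
    rw [← Nat.card_units, ← ψ.ker.card_mul_index, Subgroup.index_ker]
  have hK27 : 27 ≤ Nat.card K := by
    rw [Module.natCard_eq_pow_finrank (K := F), hr]
    have h3 : 3 ≤ Nat.card F := by
      by_contra hc
      have h2 : 2 ≤ Nat.card F := Finite.one_lt_card
      letI : Fintype F := Fintype.ofFinite F
      have hp : Fintype.card F = 2 := by rw [← Nat.card_eq_fintype_card]; omega
      exact hD.two (by
        have := FiniteField.cast_card_eq_zero F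
        rwa [hp, Nat.cast_ofNat] at this)
    calc 27 = 3 ^ 3 := by norm_num
      _ ≤ _ := Nat.pow_le_pow_left h3 3
  haveI : FiniteDimensional S' K := Module.Finite.of_finite
  have hs : Nat.card K = Nat.card S' ^ finrank S' K := Module.natCard_eq_pow_finrank
  have hm : 0 < finrank S' K := Module.finrank_pos
  have htop : finrank S' K = 1 := by
    by_contra hne
    have h2 : Nat.card S' ^ 2 ≤ Nat.card K := hs ▸ Nat.pow_le_pow_right Nat.card_pos (by omega)
    have h3 : Nat.card K - 1 ≤ 4 * Nat.card ψ.range := hcard ▸ Nat.mul_le_mul_right _ h4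
    nlinarith [h2, h3, hrange, hK27, Nat.sub_add_cancel (show 1 ≤ Nat.card K by omega)]
  obtain ⟨x, hx⟩ := finrank_eq_one_iff'.1 htop
  obtain ⟨c0, hc0⟩ := hx.2 1
  obtain ⟨c, rfl⟩ := hx.2 k
  have e1 : (c0 : K) * x = 1 := hc0
  have hx1 : x ∈ S := by
    rw [show x = (c0 : K)⁻¹ from eq_inv_of_mul_eq_one_left (by rw [mul_comm]; exact e1)]
    exact S'.inv_mem c0.2
  show (c : K) * x ∈ S
  exact S.mul_mem c.2 hx1

variable {M : Subgroup (Grp Q)} (hM : Full β M)
include hM

/-- One element moving into a line gives all root elements of the lines, in degree three. -/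
theorem El_le_of_alt (hr : finrank F K = 3) {u : V} (hu : β u u = 0) (hu0 : u ≠ 0) {c : Grp Q}
    (hcM : c ∈ M) (halt : IsAlt β u c) : El Q ≤ M := by
  classical
  obtain ⟨w, v0, hH⟩ := hD.exists_hy hu hu0
  obtain ⟨b⟩ : Nonempty (Basis (Fin 3) F K) := ⟨Module.finBasisOfFinrankEq F K hr⟩
  have hlin : ∀ (g : Grp Q) (α : K), t (flatMap β w g α * 0) = 0 := fun g α => by
    rw [mul_zero, map_zero]
  -- every such element has a parameter
  have hpar : ∀ g : Grp Q, Flat β u g →
      ∃ n : K, ∀ α γ, t (flatMap β w g α * γ) = vol b n α γ := by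
    intro g hg
    have hsk := hg.skew hD hH
    set ω : K →ₗ[F] K →ₗ[F] F := ((LinearMap.mul F K).compr₂ t) ∘ₗ flatMap β w g
    have hω : ∀ α γ, ω α γ = t (flatMap β w g α * γ) := fun α γ => rfl
    refine ⟨ω (b 1) (b 2) • b 0 + ω (b 2) (b 0) • b 1 + ω (b 0) (b 1) • b 2, fun α γ => ?_⟩
    have hskew : ∀ α γ, ω γ α = -ω α γ := fun α γ =>
      eq_neg_of_add_eq_zero_right (by rw [hω, hω]; exact hsk α γ)
    have hdiag : ∀ α, ω α α = 0 := fun α => by
      have h := hskew α α
      exact (mul_eq_zero.1 (show (2 : F) * ω α α = 0 by linear_combination h)).resolve_left hD.two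
    rw [← hω, vol_eq]
    conv_lhs => rw [← b.sum_repr α, ← b.sum_repr γ]
    simp only [Fin.sum_univ_three, map_add, map_smul, LinearMap.add_apply, LinearMap.smul_apply,
      smul_eq_mul, hdiag, Finsupp.coe_add, Finsupp.coe_smul, Pi.add_apply, Pi.smul_apply,
      Basis.repr_self, Finsupp.single_apply]
    simp only [Fin.reduceEq, if_false, if_true, mul_zero, mul_one, add_zero, zero_add]
    rw [hskew (b 0) (b 1), hskew (b 2) (b 0), hskew (b 1) (b 2)]
    ring
  -- the parameters inside the group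
  let N : Set K := {n | ∃ g ∈ M, Flat β u g ∧ ∀ α γ, t (flatMap β w g α * γ) = vol b n α γ}
  have hN0 : (0 : K) ∈ N := ⟨1, M.one_mem,
    ⟨fun x => ⟨0, by rw [dev_apply, ap_one, sub_self, zero_smul]⟩,
      fun x _ => by rw [dev_apply, ap_one, sub_self]⟩,
    fun α γ => by
      rw [vol_eq, flatMap_apply, dev_apply, ap_one, sub_self]; simp⟩
  have hNadd : ∀ {m n}, m ∈ N → n ∈ N → m + n ∈ N := by
    rintro m n ⟨g, hg, hgf, hgv⟩ ⟨h, hh, hhf, hhv⟩
    refine ⟨g * h, M.mul_mem hg hh, (hgf.mul hD hH hhf).1, fun α γ => ?_⟩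
    rw [(hgf.mul hD hH hhf).2, add_mul, map_add, hgv, hhv, vol_eq, vol_eq, vol_eq]
    simp only [map_add, Finsupp.coe_add, Pi.add_apply]
    ring
  let S : Subring K :=
    { carrier := {k | ∀ n ∈ N, k * n ∈ N}
      one_mem' := fun n hn => by rwa [one_mul]
      zero_mem' := fun n _ => by rw [zero_mul]; exact hN0
      add_mem' := fun {k l} hk hl n hn => by rw [add_mul]; exact hNadd (hk n hn) (hl n hn)
      mul_mem' := fun {k l} hk hl n hn => by rw [mul_assoc]; exact hk _ (hl n hn)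
      neg_mem' := fun {k} hk n hn => by
        obtain ⟨g, hg, hgf, hgv⟩ := hk n hn
        have hinv : ∀ x, dev g⁻¹ x = -dev g x := fun x => by
          obtain ⟨l, hl⟩ := hgf.1 x
          have h : ap g (x - dev g x) = x := by
            rw [ap_sub, ap_eq_dev g (dev g x), hl, hgf.dev_self hD hH, ap_eq_dev g x, hl]
            abel
          conv_lhs => rw [dev_apply]; arg 1; rw [← h, ap_inv_ap]
          abel
        refine ⟨g⁻¹, M.inv_mem hg, ⟨fun x => ?_, fun x hx => by rw [hinv, hgf.2 x hx, neg_zero]⟩,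
          fun α γ => ?_⟩
        · obtain ⟨l, hl⟩ := hgf.1 x
          exact ⟨-l, by rw [hinv, hl, neg_smul]⟩
        · rw [flatMap_apply, hinv, map_neg, LinearMap.neg_apply, neg_mul, map_neg,
            ← flatMap_apply, hgv, vol_eq, vol_eq]
          simp only [neg_mul k n, map_neg, Finsupp.coe_neg, Pi.neg_apply]
          ring }
  have hSall := hD.norm_span hr S fun ν hν n ⟨g, hg, hgf, hgv⟩ => by
    obtain ⟨s, hs, hsl, hsu⟩ := hM.exists_scale hD hH (inv_ne_zero hν)
    have hνν : ν⁻¹ * ν⁻¹ ≠ 0 := mul_ne_zero (inv_ne_zero hν) (inv_ne_zero hν)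
    have hc := hgf.conj hD hH hsl hνν hsu
    refine ⟨s⁻¹ * g * s, M.mul_mem (M.mul_mem (M.inv_mem hs) hg) hs, hc.1, fun α γ => ?_⟩
    rw [hc.2, mul_inv_rev, inv_inv, mul_comm (ν * ν) (flatMap β w g _), mul_assoc, hgv]
    have h := vol_mul b (ν * ν) (Algebra.norm F (ν * ν) • (ν * ν)⁻¹ * n) α γ
    rw [smul_mul_assoc, mul_smul_comm, ← mul_assoc, mul_inv_cancel₀ (mul_ne_zero hν hν), one_mul] at h
    have hl : vol b (Algebra.norm F (ν * ν) • n) (ν * ν * α) (ν * ν * γ) =
        Algebra.norm F (ν * ν) * vol b n (ν * ν * α) (ν * ν * γ) := by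
      rw [vol_eq, vol_eq]
      simp only [map_smul, Finsupp.coe_smul, Pi.smul_apply, smul_eq_mul]
      ring
    rw [hl] at h
    rw [smul_mul_assoc]
    exact mul_left_cancel₀ (Algebra.norm_ne_zero_iff.2 (mul_ne_zero hν hν)) h
  -- all of them
  obtain ⟨hcne, hcf⟩ := halt
  obtain ⟨n0, hn0⟩ := hpar c hcf
  have hn00 : n0 ≠ 0 := fun e => hcne (ext_ap fun x => by
    rw [ap_one, ap_eq_dev, Flat.dev_eq hD hH hcf,
      hD.t_zero (z := flatMap β w c (β x u)) fun μ => by
        rw [mul_comm, hn0, e, vol_eq]; simp,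
      zero_smul, add_zero])
  have hNall : ∀ n, n ∈ N := fun n => by
    have h := hSall (n / n0) n0 ⟨c, hcM, hcf, hn0⟩
    rwa [div_mul_cancel₀ _ hn00] at h
  have hflat : ∀ g : Grp Q, Flat β u g → g ∈ M := fun g hg => by
    obtain ⟨n, hn⟩ := hpar g hg
    obtain ⟨m, hm, hmf, hmv⟩ := hNall n
    rw [hg.eq_of_map hD hH hmf fun α => hD.t_ext fun μ => by
      rw [mul_comm, hn, mul_comm, hmv]]
    exact hm
  refine El_le_of_line hD (fun y hy hy0 k => ?_) hu hu0
  obtain ⟨f, hf, s, hs, hsl, hsu⟩ := hM.trans hD hu hy hu0 hy0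
  refine ⟨by rw [hD.b_smul', hy, mul_zero, map_zero], fun a g hg => ?_⟩
  have hgy : ∀ x, ∃ l : K, dev g x = l • y ∧ (β x y = 0 → l = 0) := fun x => by
    refine ⟨B x y • (a • k) - algebraMap F K (B x (a • k • y)), ?_, fun h => ?_⟩
    · rw [dev_apply, hg.2.2, q_smul, hD.sing_smul hy, mul_zero, zero_mul, zero_smul, sub_zero,
        sub_smul, smul_assoc, algebraMap_smul, smul_assoc]
      abel
    · rw [show B x (a • k • y) = 0 by rw [b_smul_right, hD.b_smul', h, mul_zero, map_zero, mul_zero],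
        show B x y = B x ((1 : K) • y) by rw [one_smul], hD.b_smul', h, mul_zero, map_zero,
        zero_smul, map_zero, sub_zero]
  have hconj : Flat β u (s⁻¹ * g * s) := by
    have hinv : ap s⁻¹ y = (f⁻¹ : F) • u := ap_inj s (by
      rw [ap_ap_inv, ap_smul, hsu, smul_smul, inv_mul_cancel₀ hf, one_smul])
    have e : ∀ x, dev (s⁻¹ * g * s) x = ap s⁻¹ (dev g (ap s x)) := fun x => by
      rw [dev_apply, dev_apply, ap_mul, ap_mul, ap_sub, ap_inv_ap]
    refine ⟨fun x => ?_, fun x hx => ?_⟩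
    · obtain ⟨l, hl, -⟩ := hgy (ap s x)
      exact ⟨l * algebraMap F K f⁻¹, by
        rw [e, hl, hsl.inv, hinv, ← smul_smul, algebraMap_smul]⟩
    · obtain ⟨l, hl, h0⟩ := hgy (ap s x)
      have h := hD.beta_ap hsl x u
      rw [hsu, LinearMap.map_smul_of_tower, hx, smul_eq_zero] at h
      rw [e, hl, h0 (h.resolve_left hf), zero_smul, ap_zero]
  have := M.mul_mem (M.mul_mem hs (hflat _ hconj)) (M.inv_mem hs)
  rwa [show s * (s⁻¹ * g * s) * s⁻¹ = g by group] at this

/-- An involution of an image of a line that is not a scalar gives everything, in degree three. -/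
theorem El_le_of_invol (hr : finrank F K = 3) {g : Grp Q} (hg : g ∈ M) {a : V} (ha : β a a = 0)
    (ha0 : a ≠ 0) {s : Grp Q} (hs : s ∈ M) (hs2 : s * s = 1)
    (hstab : ∀ μ : K, ∃ ν : K, ap g (ν • a) = ap s (ap g (μ • a)))
    {ν0 ν1 : K} (hν0 : ν0 ≠ 0) (hν1 : ν1 ≠ 0) (hp : ap s (ap g (ν0 • a)) = ap g (ν0 • a))
    (hn : ap s (ap g (ν1 • a)) = -ap g (ν1 • a)) : El Q ≤ M := by
  classical
  by_contra hE
  have hno : ∀ c ∈ M, ¬ IsAlt β a c := fun c hc hi => hE (El_le_of_alt hD hM hr ha ha0 hc hi)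
  obtain ⟨w, v0, hH⟩ := hD.exists_hy ha ha0
  choose T hT using fun lam : K => hD.exists_isK ha (v := lam • v0) (by
    rw [map_smul, hH.uv, smul_zero])
  obtain ⟨h, hhd⟩ : ∃ h, h = g⁻¹ * s * g := ⟨_, rfl⟩
  have hhM : h ∈ M := hhd ▸ M.mul_mem (M.mul_mem (M.inv_mem hg) hs) hg
  have hh2 : ∀ x, ap h (ap h x) = x := fun x => by
    rw [← ap_mul, hhd, show g⁻¹ * s * g * (g⁻¹ * s * g) = g⁻¹ * (s * s) * g by group, hs2, mul_one,
      inv_mul_cancel, ap_one]
  have hhi : h⁻¹ = h := inv_eq_of_mul_eq_one_right (ext_ap fun x => by rw [ap_mul, hh2, ap_one])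
  set A : K →ₗ[F] K := (β.flip w).restrictScalars F ∘ₗ psi a h with hAd
  have hA : ∀ μ, ap h (μ • a) = A μ • a := fun μ => by
    obtain ⟨ν, hν⟩ := hstab μ
    have e : ap h (μ • a) = ν • a := by rw [hhd, ap_mul, ap_mul, ← hν, ap_inv_ap]
    rw [show A μ = β (ap h (μ • a)) w from rfl, e, LinearMap.map_smul₂, hH.uw, smul_eq_mul, mul_one]
  have hinjA : Function.Injective (fun k : K => k • a) := smul_left_injective K ha0
  have hA2 : ∀ μ, A (A μ) = μ := fun μ => hinjA (by
    show A (A μ) • a = μ • a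
    rw [← hA, ← hA, hh2])
  have hA0 : A ν0 = ν0 := hinjA (by
    show A ν0 • a = ν0 • a
    rw [← hA, hhd, ap_mul, ap_mul, hp, ap_inv_ap])
  have hA1 : A ν1 = -ν1 := hinjA (by
    show A ν1 • a = (-ν1) • a
    rw [← hA, hhd, ap_mul, ap_mul, hn, ← neg_one_smul F (ap g (ν1 • a)), ap_smul, ap_inv_ap,
      neg_one_smul, neg_smul])
  have hperp : ∀ x, β x a = 0 → β (ap h x) a = 0 := fun x hx => hD.beta_zero_iff.2 fun μ => by
    rw [ap_b_left, hhi, hA, hD.b_smul', hx, mul_zero, map_zero]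
  -- the elements between the stabiliser of the orthogonal and the point
  have hTu : ∀ l (μ : K), ap (T l) (μ • a) = μ • a := fun l μ => siegel_fix_line hD.toExt (hT l) μ
  have hTperp : ∀ l x, β x a = 0 → ∃ k : K, dev (T l) x = k • a := fun l x hx =>
    ⟨-(l * β x v0 + l * l * β v0 v0 / 2 * β x a), by
      rw [dev_apply, root_apply hD hM hH hT, hx]; simp [sub_eq_add_neg]⟩
  have hTdev : ∀ l x, β (dev (T l) x) a = 0 := fun l x => by
    rw [dev_apply, root_apply hD hM hH hT]
    simp [hH.uu, hD.symm v0 a, hH.uv]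
  -- conjugates of root elements are root elements
  have hσ : ∀ l, ∃ m, h * T l = T m * h := by
    intro l
    obtain ⟨R, hRd⟩ : ∃ R, R = h * T l * h := ⟨_, rfl⟩
    have hRu : ∀ μ : K, ap R (μ • a) = μ • a := fun μ => by
      rw [hRd, ap_mul, ap_mul, hA, hTu, ← hA, hh2]
    have hRdev : ∀ x, dev R x = ap h (dev (T l) (ap h x)) := fun x => by
      rw [dev_apply, dev_apply, hRd, ap_mul, ap_mul, ap_sub, hh2]
    have hRperp : ∀ x, β x a = 0 → ∃ k : K, dev R x = k • a := fun x hx => by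
      obtain ⟨k, hk⟩ := hTperp l _ (hperp x hx)
      exact ⟨A k, by rw [hRdev, hk, hA]⟩
    have hRim : ∀ x, β (dev R x) a = 0 := fun x => by rw [hRdev]; exact hperp _ (hTdev l _)
    have hcomm : ∀ κ, R * T κ = T κ * R := fun κ => by
      by_contra hne
      set C := (R * T κ) * (T κ * R)⁻¹ with hC
      have hCM : C ∈ M := by
        have hR : R ∈ M := hRd ▸ M.mul_mem (M.mul_mem hhM ((hM.over hD).mem (hT l))) hhM
        have hTκ := (hM.over hD).mem (hT κ)
        exact M.mul_mem (M.mul_mem hR hTκ) (M.inv_mem (M.mul_mem hTκ hR))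
      set D0 := fun y => dev R (dev (T κ) y) - dev (T κ) (dev R y) with hD0
      have hCy : ∀ x, dev C x = D0 (ap (T κ * R)⁻¹ x) := fun x => by
        obtain ⟨y, rfl⟩ : ∃ y, x = ap (T κ * R) y := ⟨_, (ap_ap_inv _ x).symm⟩
        rw [ap_inv_ap, dev_apply, ← ap_mul, hC, inv_mul_cancel_right, ap_mul, ap_mul, hD0]
        simp only [dev_apply, ap_sub]
        abel
      refine hno C hCM ⟨fun e => hne (mul_inv_eq_one.1 e), fun x => ?_, fun x hx => ?_⟩
      · obtain ⟨k, hk⟩ := hRperp _ (hTdev κ (ap (T κ * R)⁻¹ x))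
        obtain ⟨k', hk'⟩ := hTperp κ _ (hRim (ap (T κ * R)⁻¹ x))
        exact ⟨k - k', by rw [hCy, hD0]; dsimp only; rw [hk, hk', sub_smul]⟩
      · obtain ⟨y, hy⟩ : ∃ y, y = ap (T κ * R)⁻¹ x := ⟨_, rfl⟩
        have hy0 : β y a = 0 := by
          have e : x = y + dev R y + dev (T κ) (ap R y) := by
            rw [← ap_eq_dev R, ← ap_eq_dev (T κ), ← ap_mul, hy, ap_ap_inv]
          have h0 := congrArg (fun z => β z a) e
          simp only [map_add, LinearMap.add_apply, hx, hRim, hTdev, add_zero] at h0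
          exact h0.symm
        obtain ⟨k, hk⟩ := hTperp κ y hy0
        obtain ⟨k', hk'⟩ := hRperp y hy0
        rw [hCy, ← hy, hD0]
        dsimp only
        rw [hk, hk', dev_apply, dev_apply, hRu, hTu, sub_self, sub_self, sub_self]
    obtain ⟨ρ, hρ⟩ : ∃ ρ : K, ∀ f : F, ρ ≠ algebraMap F K f := by
      by_contra hc
      push Not at hc
      have : finrank F K ≤ 1 := finrank_le_one (1 : K) fun k => by
        obtain ⟨f, hf⟩ := hc k
        exact ⟨f, by rw [hf, Algebra.algebraMap_eq_smul_one]⟩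
      omega
    have hR : R ∈ M := hRd ▸ M.mul_mem (M.mul_mem hhM ((hM.over hD).mem (hT l))) hhM
    obtain ⟨m, hm⟩ := cent_mem hD hM hH hT (μ1 := 1) (μ2 := ρ) one_ne_zero
      (by simpa using hρ) (hRu 1) hR hno (l1 := 1) (l2 := ρ) one_ne_zero (by simpa using hρ)
      (hcomm 1) (hcomm ρ)
    refine ⟨m, ext_ap fun x => ?_⟩
    rw [← hm, hRd, ap_mul, ap_mul, ap_mul, ap_mul, hh2]
  choose σ hσ using hσ
  -- semilinearity
  have rel : ∀ l b, A (l * b * β v0 v0) = σ l * β (ap h (b • v0)) v0 := fun l b => by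
    have e := congrArg (fun r => ap r (b • v0)) (hσ l)
    have hb : β (b • v0) a = 0 := by rw [LinearMap.map_smul₂, hD.symm, hH.uv, smul_zero]
    simp only [ap_mul] at e
    rw [root_apply hD hM hH hT, root_apply hD hM hH hT, hperp _ hb, hb] at e
    simp only [zero_mul, mul_zero, zero_smul, add_zero, ap_sub, hA] at e
    rw [sub_right_inj] at e
    rw [show l * b * β v0 v0 = l * β (b • v0) v0 by rw [LinearMap.map_smul₂, smul_eq_mul]; ring]
    exact hinjA e
  obtain ⟨e1, he1⟩ : ∃ e1, e1 = σ 1 := ⟨_, rfl⟩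
  have he10 : e1 ≠ 0 := fun e => by
    have h := congrArg A (rel 1 (ν0 / β v0 v0))
    rw [← he1, e, zero_mul, map_zero, hA2, one_mul, div_mul_cancel₀ _ hH.qv] at h
    exact hν0 h
  have rel' : ∀ l ν, A (l * ν) = σ l / e1 * A ν := fun l ν => by
    have r1 := rel l (ν / β v0 v0)
    have r2 := rel 1 (ν / β v0 v0)
    rw [mul_assoc, div_mul_cancel₀ _ hH.qv] at r1
    rw [one_mul, div_mul_cancel₀ _ hH.qv, ← he1] at r2
    rw [r1, r2]
    field_simp
  obtain ⟨τ, hτd⟩ : ∃ τ : K → K, ∀ l, τ l = σ l / e1 := ⟨_, fun l => rfl⟩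
  have hτ : ∀ l ν, A (l * ν) = τ l * A ν := fun l ν => by rw [hτd]; exact rel' l ν
  have hτv : ∀ l, τ l = A (l * ν0) / ν0 := fun l => by
    rw [hτ, hA0, mul_div_cancel_right₀ _ hν0]
  have hτ2 : ∀ l, τ (τ l) = l := fun l => by
    have h1 := hτ (τ l) ν0
    rw [hA0, ← show A (l * ν0) = τ l * ν0 by rw [hτ, hA0], hA2] at h1
    exact (mul_right_cancel₀ hν0 h1).symm
  let S : Submodule F K :=
    { carrier := {k | τ k = k}
      add_mem' := fun {k l} (hk : τ k = k) (hl : τ l = l) => by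
        show τ (k + l) = k + l
        rw [hτv, add_mul, map_add, add_div, ← hτv, ← hτv, hk, hl]
      zero_mem' := by show τ 0 = 0; rw [hτv, zero_mul, map_zero, zero_div]
      smul_mem' := fun f k (hk : τ k = k) => by
        show τ (f • k) = f • k
        rw [hτv, smul_mul_assoc, map_smul, smul_div_assoc, ← hτv, hk] }
  have hmul : ∀ k l, k ∈ S → l ∈ S → k * l ∈ S := fun k l (hk : τ k = k) (hl : τ l = l) => by
    show τ (k * l) = k * l
    rw [hτv, mul_assoc, hτ, hk, show A (l * ν0) = l * ν0 by rw [hτ, hA0, hl], ← mul_assoc,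
      mul_div_cancel_right₀ _ hν0]
  have h1S : (1 : K) ∈ S := by show τ 1 = 1; rw [hτv, one_mul, hA0, div_self hν0]
  by_cases hb : ∃ ρ ∈ S, ∀ f : F, ρ ≠ algebraMap F K f
  · obtain ⟨ρ, hρS, hρ⟩ := hb
    have h : τ (ν1 / ν0) = ν1 / ν0 := hD.eq_top_of_mem h1S hmul hρS hρ _
    rw [hτv, div_mul_cancel₀ _ hν0, hA1] at h
    rw [div_left_inj' hν0] at h
    exact hν1 ((mul_eq_zero.1 (show (2 : K) * ν1 = 0 by linear_combination -h)).resolve_left hD.twoK)
  push Not at hb
  -- every scalar would be quadratic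
  have hτm : ∀ k l, τ (k * l) = τ k * τ l := fun k l => by
    rw [hτv, mul_assoc, hτ, show A (l * ν0) = τ l * ν0 by rw [hτ, hA0], ← mul_assoc,
      mul_div_cancel_right₀ _ hν0]
  have hτa : ∀ k l, τ (k + l) = τ k + τ l := fun k l => by
    rw [hτv, add_mul, map_add, add_div, ← hτv, ← hτv]
  obtain ⟨ρ, hρ⟩ : ∃ ρ : K, ∀ f : F, ρ ≠ algebraMap F K f := by
    by_contra hc
    push Not at hc
    have : finrank F K ≤ 1 := finrank_le_one (1 : K) fun k => by
      obtain ⟨f, hf⟩ := hc k
      exact ⟨f, by rw [hf, Algebra.algebraMap_eq_smul_one]⟩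
    omega
  obtain ⟨f1, hf1⟩ := hb (ρ + τ ρ) (by show τ _ = _; rw [hτa, hτ2, add_comm])
  obtain ⟨f2, hf2⟩ := hb (ρ * τ ρ) (by show τ _ = _; rw [hτm, hτ2, mul_comm])
  let P : Submodule F K := Submodule.span F {1, ρ}
  have h1P : (1 : K) ∈ P := Submodule.subset_span (by simp)
  have hρP : ρ ∈ P := Submodule.subset_span (by simp)
  have hρρ : ρ * ρ ∈ P := by
    rw [show ρ * ρ = f1 • ρ - f2 • (1 : K) by
      rw [Algebra.smul_def, Algebra.smul_def, ← hf1, ← hf2]; ring]
    exact sub_mem (P.smul_mem _ hρP) (P.smul_mem _ h1P)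
  have hmulP : ∀ k l, k ∈ P → l ∈ P → k * l ∈ P := by
    intro k l hk hl
    obtain ⟨k1, k2, rfl⟩ := Submodule.mem_span_pair.1 hk
    obtain ⟨l1, l2, rfl⟩ := Submodule.mem_span_pair.1 hl
    simp only [add_mul, mul_add, smul_mul_smul, one_mul, mul_one]
    exact add_mem (add_mem (P.smul_mem _ h1P) (P.smul_mem _ hρP))
      (add_mem (P.smul_mem _ hρP) (P.smul_mem _ hρρ))
  have htop : P = ⊤ :=
    eq_top_iff.2 fun x _ => hD.eq_top_of_mem h1P hmulP hρP hρ x
  have hspan := finrank_span_finset_le_card (R := F) ({1, ρ} : Finset K)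
  rw [Set.finrank, Finset.coe_pair, show Submodule.span F ({1, ρ} : Set K) = P from rfl, htop,
    finrank_top] at hspan
  have := hspan.trans Finset.card_le_two
  omega

end CfsgLib.OrthExt
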