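import Cfsg.Agent.Lib.Classical.OrthExtField.Three.Line

set_option autoImplicit false
set_option linter.unusedSectionVars false

/-!
A moved singular line in dimension three over an extension field gives two images of lines meeting in
at least two dimensions.
-/

namespace CfsgLib.OrthExt

open Module CfsgLib.Orth

variable {F : Type*} [Field F] [Finite F] {ι : Type} [Fintype ι] [DecidableEq ι]
variable {K : Type*} [Field K] [Algebra F K] [Finite K] [Module K (ι → F)]
  [IsScalarTower F K (ι → F)] [FiniteDimensional F K]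
variable {Q : QuadraticForm F (ι → F)} {t : K →ₗ[F] F}
  {β : (ι → F) →ₗ[K] (ι → F) →ₗ[K] K}

local notation "V" => ι → F
local notation "B" => QuadraticMap.polar (DFunLike.coe Q)

/-- Two images meeting in two dimensions, or all Siegel transformations. -/
def Rich (β : (ι → F) →ₗ[K] (ι → F) →ₗ[K] K) (M : Subgroup (Grp Q)) : Prop :=
  El Q ≤ M ∨ ∃ u u' h, Pair β M u u' h ∧ 2 ≤ finrank F (Lsp (K := K) u u' h)

/-- The image of the line of `a`. -/
def Img (K : Type*) [Field K] [Algebra F K] [Module K (ι → F)] [IsScalarTower F K (ι → F)]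
    (a : ι → F) (g : Grp Q) : Submodule F (ι → F) :=
  LinearMap.range (psi (K := K) a g)

theorem mem_img {a y : ι → F} {g : Grp Q} : y ∈ Img K a g ↔ ∃ μ : K, ap g (μ • a) = y := Iff.rfl

omit [Finite F] [Finite K] [FiniteDimensional F K] in
theorem two_mul_smul_eq (k : K) (e : V) : (2 * k) • e = (2 : F) • k • e := by
  rw [← smul_smul, ← algebraMap_smul K (2 : F), map_ofNat]

/-- The scalars sending a vector into a subspace. -/
def Scal (K : Type*) [Field K] [Algebra F K] [Module K (ι → F)] [IsScalarTower F K (ι → F)]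
    (W : Submodule F (ι → F)) (p : ι → F) : Submodule F K :=
  W.comap ((LinearMap.toSpanSingleton K (ι → F) p).restrictScalars F)

theorem mem_scal {W : Submodule F (ι → F)} {p : ι → F} {μ : K} :
    μ ∈ Scal K W p ↔ μ • p ∈ W := Iff.rfl

omit [Finite F] in
/-- An alternating form in odd dimension is degenerate. -/
theorem exists_ker_of_skew {E : Type*} [AddCommGroup E] [Module F E] [FiniteDimensional F E]
    (h2 : (2 : F) ≠ 0) (hodd : Odd (finrank F E)) (ω : E →ₗ[F] E →ₗ[F] F)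
    (hω : ∀ x y, ω x y = -ω y x) : ∃ x, x ≠ 0 ∧ ∀ y, ω x y = 0 := by
  classical
  set b := Module.finBasis F E
  set A : Matrix (Fin (finrank F E)) (Fin (finrank F E)) F := Matrix.of fun i j => ω (b i) (b j)
  have hA : A.transpose = -A := by ext i j; simp [A]; rw [hω]
  have hdet : A.det = 0 := by
    have h := congrArg Matrix.det hA
    rw [Matrix.det_transpose, Matrix.det_neg, Fintype.card_fin, hodd.neg_one_pow] at h
    have h' : (2 : F) * A.det = 0 := by linear_combination h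
    exact (mul_eq_zero.1 h').resolve_left h2
  obtain ⟨v, hv0, hv⟩ := Matrix.exists_vecMul_eq_zero_iff.2 hdet
  refine ⟨∑ i, v i • b i, fun e => hv0 (funext fun i => ?_), fun y => ?_⟩
  · exact Fintype.linearIndependent_iff.1 b.linearIndependent v e i
  · have h : ω (∑ i, v i • b i) = 0 := b.ext fun j => by
      have := congrFun hv j
      simpa [A, Matrix.vecMul, dotProduct] using this
    rw [h, LinearMap.zero_apply]

variable (hD : Dim3 Q t β)
include hD

/-- A totally singular set of multiples of an anisotropic vector is small. -/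
theorem Dim3.iso_le {c : K} (hc : c ≠ 0) {S : Submodule F K}
    (h : ∀ μ ∈ S, ∀ ν ∈ S, t (μ * ν * c) = 0) : 2 * finrank F S ≤ finrank F K := by
  set e : K →ₗ[F] Module.Dual F K :=
    (LinearMap.mul F K).compr₂ (t ∘ₗ LinearMap.mulRight F c) with he
  have hex : ∀ μ ν, e μ ν = t (μ * ν * c) := fun μ ν => rfl
  have hinj : Function.Injective e := by
    rw [← LinearMap.ker_eq_bot, LinearMap.ker_eq_bot']
    intro μ hμ
    refine (mul_eq_zero.1 (hD.t_zero (z := μ * c) fun ν => ?_)).resolve_right hc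
    rw [← mul_assoc, mul_comm ν μ, ← hex, hμ, LinearMap.zero_apply]
  have hle : S.map e ≤ S.dualAnnihilator := by
    rintro _ ⟨μ, hμ, rfl⟩
    rw [Submodule.mem_dualAnnihilator]
    exact fun ν hν => h μ hμ ν hν
  have h1 := Submodule.finrank_mono hle
  rw [← (Submodule.equivMapOfInjective e hinj S).finrank_eq] at h1
  have h2 := Subspace.finrank_add_finrank_dualAnnihilator_eq S
  omega

theorem img_iso {a : V} (ha : β a a = 0) {g : Grp Q} {y y' : V} (hy : y ∈ Img K a g)
    (hy' : y' ∈ Img K a g) : B y y' = 0 := by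
  obtain ⟨μ, rfl⟩ := mem_img.1 hy
  obtain ⟨ν, rfl⟩ := mem_img.1 hy'
  exact image_iso hD.toExt ha g μ ν

theorem scal_le {a : V} (ha : β a a = 0) {g : Grp Q} {e : V} (he : β e e ≠ 0) :
    2 * finrank F (Scal K (Img K a g) e) ≤ finrank F K :=
  hD.iso_le he fun μ hμ ν hν => by
    have h := img_iso hD ha (mem_scal.1 hμ) (mem_scal.1 hν)
    rw [← hD.spec, LinearMap.map_smul₂, smul_eq_mul, map_smul, smul_eq_mul, ← mul_assoc] at h
    exact h

omit hD in
theorem two_le_lsp {u u' : V} {g : Grp Q} {μ ν : K} (hμ : μ ∈ Lsp u u' g) (hν : ν ∈ Lsp u u' g)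
    (hμ0 : μ ≠ 0) (hind : ∀ f : F, ν ≠ f • μ) : 2 ≤ finrank F (Lsp (K := K) u u' g) := by
  have hlt : Submodule.span F {μ} < Lsp (K := K) u u' g :=
    lt_of_le_not_ge ((Submodule.span_singleton_le_iff_mem _ _).2 hμ) fun h => by
      obtain ⟨f, hf⟩ := Submodule.mem_span_singleton.1 (h hν)
      exact hind f hf.symm
  have := Submodule.finrank_lt_finrank_of_lt hlt
  rw [finrank_span_singleton hμ0] at this
  omega

variable {M : Subgroup (Grp Q)} (hM : Full β M)
include hM

variable {g : Grp Q} (hg : g ∈ M) {a : ι → F} (ha : β a a = 0) (ha0 : a ≠ 0)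
include hg ha ha0

omit hD hM in
theorem pair_of_mover {s : Grp Q} (hs : s ∈ M) {y1 y2 y3 : V} (h1 : y1 ∈ Img K a g)
    (h2 : y2 ∈ Img K a g) (h3 : y3 ∈ Img K a g) (h10 : y1 ≠ 0) (hind : ∀ f : F, y2 ≠ f • y1)
    (hs1 : ap s y1 ∈ Img K a g) (hs2 : ap s y2 ∈ Img K a g) (hs3 : ap s y3 ∉ Img K a g) :
    Rich β M := by
  obtain ⟨μ, rfl⟩ := mem_img.1 h1
  obtain ⟨ν, rfl⟩ := mem_img.1 h2
  obtain ⟨ξ, rfl⟩ := mem_img.1 h3
  have hmem : ∀ η : K, ap s (ap g (η • a)) ∈ Img K a g ↔ η ∈ Lsp a a (g⁻¹ * s * g) := fun η => by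
    rw [transport_mem]; exact mem_img
  refine Or.inr ⟨a, a, g⁻¹ * s * g, ⟨M.mul_mem (M.mul_mem (M.inv_mem hg) hs) hg, ha, ha0, ha, ha0, ξ,
    fun h => hs3 ((hmem ξ).2 h)⟩, two_le_lsp ((hmem μ).1 hs1) ((hmem ν).1 hs2) ?_ ?_⟩
  · intro e; rw [e, zero_smul, ap_zero] at h10; exact h10 rfl
  · intro f e; exact hind f (by rw [e, smul_assoc, ap_smul])

omit hM in
theorem caseS (hmove : ∃ μ : K, ∀ k : K, ap g (μ • a) ≠ k • ap g a) {p : V} (hp : β p p = 0)
    (hp0 : p ≠ 0) (h2 : 2 ≤ finrank F (Scal K (Img K a g) p)) : Rich β M := by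
  refine Or.inr ⟨p, a, g, ⟨hg, hp, hp0, ha, ha0, ?_⟩, ?_⟩
  · by_contra hc
    push Not at hc
    obtain ⟨μ, hμ⟩ := hmove
    obtain ⟨k1, hk1⟩ := mem_lsp.1 (hc 1)
    obtain ⟨k, hk⟩ := mem_lsp.1 (hc μ)
    rw [one_smul] at hk1
    have hk10 : k1 ≠ 0 := fun e => ha0 (ap_inj g (by rw [← hk1, e, zero_smul, ap_zero]))
    exact hμ (k / k1) (by rw [← hk, ← hk1, smul_smul, div_mul_cancel₀ _ hk10])
  · set ψ : K →ₗ[F] V := (LinearMap.toSpanSingleton K (ι → F) p).restrictScalars F
    have hψ : Function.Injective ψ := smul_left_injective K hp0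
    have hψ' : Function.Injective (psi (K := K) a g) := fun x y e =>
      smul_left_injective K ha0 (ap_inj g e)
    have e1 : (Scal K (Img K a g) p).map ψ ≤ (Lsp (K := K) p a g).map (psi a g) := by
      rintro _ ⟨μ, hμ, rfl⟩
      obtain ⟨ν, hν⟩ := mem_img.1 hμ
      exact ⟨ν, mem_lsp.2 ⟨μ, hν.symm⟩, hν⟩
    have h := Submodule.finrank_mono e1
    rw [← (Submodule.equivMapOfInjective ψ hψ _).finrank_eq,
      ← (Submodule.equivMapOfInjective (psi (K := K) a g) hψ' _).finrank_eq] at h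
    omega

omit hM hg in
theorem exists_aniso (hmove : ∃ μ : K, ∀ k : K, ap g (μ • a) ≠ k • ap g a) :
    ∃ x ∈ Img K a g, β x x ≠ 0 := by
  by_contra hc
  push Not at hc
  obtain ⟨μ, hμ⟩ := hmove
  have h1 : ap g a ∈ Img K a g := ⟨1, by rw [psi_apply, one_smul]⟩
  have h2 : ap g (μ • a) ∈ Img K a g := ⟨μ, rfl⟩
  have h := hc _ (add_mem h2 h1)
  simp only [map_add, LinearMap.add_apply, hc _ h1, hc _ h2, hD.symm (ap g a), zero_add,
    add_zero] at h
  rw [← two_mul] at h
  obtain ⟨k, hk⟩ := hD.line_of_orth (hc _ h1) (fun e => ha0 (ap_inj g (e.trans (ap_zero g).symm)))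
    (hc _ h2) ((mul_eq_zero.1 h).resolve_left hD.twoK)
  exact hμ k hk

omit hM hg in
theorem exists_partner {x : V} (hx : x ∈ Img K a g) :
    ∃ y ∈ Img K a g, y ≠ 0 ∧ β y x = 0 := by
  set L : K →ₗ[F] K := Pairing β x a g
  have hL : ∀ μ, L μ ∈ LinearMap.ker t := fun μ => by
    rw [LinearMap.mem_ker, show L μ = β (ap g (μ • a)) x from rfl, hD.spec]
    exact img_iso hD ha ⟨μ, rfl⟩ hx
  have hne : LinearMap.ker L ≠ ⊥ := by
    intro e
    have h1 : finrank F (LinearMap.range L) ≤ finrank F (LinearMap.ker t) :=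
      Submodule.finrank_mono fun _ ⟨μ, e⟩ => e ▸ hL μ
    rw [LinearMap.finrank_range_of_inj (LinearMap.ker_eq_bot.1 e)] at h1
    have h2 : LinearMap.ker t < ⊤ := lt_top_iff_ne_top.2 fun e => hD.t_ne (LinearMap.ker_eq_top.1 e)
    have := Submodule.finrank_lt h2.ne
    omega
  obtain ⟨μ, hμ, hμ0⟩ := Submodule.exists_mem_ne_zero_of_ne_bot hne
  exact ⟨_, ⟨μ, rfl⟩, fun e => hμ0 ((smul_eq_zero.1 (ap_inj g (e.trans (ap_zero g).symm))).resolve_right
    ha0), hμ⟩

omit hD hM hg ha ha0 in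
/-- An axis whose half-turn fixes the image. -/
def Stab (β : (ι → F) →ₗ[K] (ι → F) →ₗ[K] K) (a : ι → F) (g : Grp Q) (e : ι → F) : Prop :=
  β e e ≠ 0 ∧ ∀ y ∈ Img K a g, (β y e / β e e) • e ∈ Img K a g

theorem stab_of_frame {x1 x2 e : V} (hf : Frame β x1 x2 e) (hsq : IsSquare (β x1 x1 * β x2 x2))
    {y1 y2 : V} (h1 : y1 ∈ Img K a g) (h2 : y2 ∈ Img K a g) (h10 : y1 ≠ 0)
    (hind : ∀ f : F, y2 ≠ f • y1) (hy1 : β y1 e = 0 ∨ ∃ k : K, y1 = k • e)
    (hy2 : β y2 e = 0 ∨ ∃ k : K, y2 = k • e) : Rich β M ∨ Stab β a g e := by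
  obtain ⟨s, hs⟩ := hD.exists_turn hf.qc
  have him : ∀ {y}, y ∈ Img K a g → (β y e = 0 ∨ ∃ k : K, y = k • e) → ap s y ∈ Img K a g := by
    rintro y hy (h | ⟨k, rfl⟩)
    · rw [hs.apply_perp hD h]; exact neg_mem hy
    · rw [hs.lin hD, hs.apply_self hD]; exact hy
  by_cases hmv : ∃ y ∈ Img K a g, ap s y ∉ Img K a g
  · obtain ⟨y, hy, hsy⟩ := hmv
    exact Or.inl (pair_of_mover hg ha ha0 (hM.turn_mem hD hf hsq hs) h1 h2 hy h10 hind
      (him h1 hy1) (him h2 hy2) hsy)
  push Not at hmv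
  refine Or.inr ⟨hf.qc, fun y hy => ?_⟩
  have h := Submodule.smul_mem _ ((2 : F)⁻¹) (add_mem (hmv y hy) hy)
  rw [hs.2, sub_add_cancel, mul_div_assoc, ← smul_smul, ← algebraMap_smul K ((2 : F)⁻¹), smul_smul,
    map_inv₀, map_ofNat, inv_mul_cancel₀ hD.twoK, one_smul] at h
  exact h

/-- In degree three an orthogonal pair of the image and a vector off their plane are enough. -/
theorem rich_of_orth (hr : finrank F K = 3) {x y n : V} (hf : Frame β x y n) (hx : x ∈ Img K a g)
    (hy : y ∈ Img K a g) (hn : ∃ z ∈ Img K a g, β z n ≠ 0) : Rich β M := by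
  have hx0 : x ≠ 0 := fun e => hf.qa (by simp [e])
  have hy0 : y ≠ 0 := fun e => hf.qb (by simp [e])
  have hxy : β y x = 0 := by rw [hD.symm]; exact hf.ab
  have hind : ∀ f : F, y ≠ f • x := fun f e => by
    rw [e, LinearMap.map_smul_of_tower, LinearMap.smul_apply, smul_eq_zero] at hxy
    exact hy0 (by rw [e, hxy.resolve_right hf.qa, zero_smul])
  -- a stable axis gives an involution
  have key : ∀ {x1 x2 e : V}, Frame β x1 x2 e → IsSquare (β x1 x1 * β x2 x2) → Stab β a g e →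
      ∀ {z z' : V}, z ∈ Img K a g → β z e ≠ 0 → z' ∈ Img K a g → z' ≠ 0 → β z' e = 0 → El Q ≤ M := by
    intro x1 x2 e he hsq hst z z' hz hze hz' hz'0 hz'e
    obtain ⟨s, hs⟩ := hD.exists_turn he.qc
    have hfix : ∀ {v}, v ∈ Img K a g → ap s ((β v e / β e e) • e) = (β v e / β e e) • e :=
      fun {v} _ => by rw [hs.lin hD, hs.apply_self hD]
    obtain ⟨ν0, hν0⟩ := mem_img.1 (hst.2 z hz)
    obtain ⟨ν1, hν1⟩ := mem_img.1 hz'
    refine El_le_of_invol hD hM hr hg ha ha0 (hM.turn_mem hD he hsq hs) (hs.sq hD) (fun μ => ?_)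
      (ν0 := ν0) (ν1 := ν1) (fun e' => ?_) (fun e' => ?_) (by rw [hν0]; exact hfix hz)
      (by rw [hν1]; exact hs.apply_perp hD hz'e)
    · refine mem_img.1 ?_
      rw [hs.2, mul_div_assoc, two_mul_smul_eq]
      exact sub_mem (Submodule.smul_mem _ (2 : F) (hst.2 _ ⟨μ, rfl⟩)) ⟨μ, rfl⟩
    · rw [e', zero_smul, ap_zero, eq_comm, smul_eq_zero, div_eq_zero_iff] at hν0
      rcases hν0 with (h | h) | h
      · exact hze h
      · exact he.qc h
      · exact he.qc (by simp [h])
    · rw [e', zero_smul, ap_zero] at hν1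
      exact hz'0 hν1.symm
  obtain ⟨z, hz, hzn⟩ := hn
  rcases hD.sq_pair (a := β x x) (b := β y y) (c := β n n) with h | h | h
  · rcases stab_of_frame hD hM hg ha ha0 hf h hx hy hx0 hind (Or.inl hf.ac) (Or.inl hf.bc) with
      hR | hst
    · exact hR
    · exact Or.inl (key hf h hst hz hzn hx hx0 hf.ac)
  · have hf' := (hf.rot hD).rot hD
    have h' : IsSquare (β n n * β x x) := by rwa [mul_comm]
    rcases stab_of_frame hD hM hg ha ha0 hf' h' hx hy hx0 hind (Or.inl hf.ab)
      (Or.inr ⟨1, (one_smul K y).symm⟩) with hR | hst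
    · exact hR
    · exact Or.inl (key hf' h' hst hy hf.qb hx hx0 hf.ab)
  · rcases stab_of_frame hD hM hg ha ha0 (hf.rot hD) h hx hy hx0 hind
      (Or.inr ⟨1, (one_smul K x).symm⟩) (Or.inl hxy) with hR | hst
    · exact hR
    · exact Or.inl (key (hf.rot hD) h hst hx hf.qa hy hy0 hxy)

theorem caseT (hmove : ∃ μ : K, ∀ k : K, ap g (μ • a) ≠ k • ap g a) {p x : V}
    (hpI : p ∈ Img K a g) (hp : β p p = 0) (hp0 : p ≠ 0) (hxI : x ∈ Img K a g)
    (hxp : β x p = 0) (hxn : ∀ k : K, x ≠ k • p) : Rich β M := by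
  classical
  by_cases hS : 2 ≤ finrank F (Scal K (Img K a g) p)
  · exact caseS hD hg ha ha0 hmove hp hp0 hS
  have hpx : β p x = 0 := by rw [hD.symm, hxp]
  have hq : β x x ≠ 0 := fun e => by
    obtain ⟨k, hk⟩ := hD.line_of_orth hp hp0 e hxp
    exact hxn k hk
  obtain ⟨T, hT⟩ := hD.exists_isK hp (v := (β x x)⁻¹ • x) (by rw [map_smul, hpx, smul_zero])
  have hTx : ∀ y, ap T y = y + (β y p / β x x) • x
      - (β y x / β x x + β y p / (2 * β x x)) • p := fun y => by
    rw [hT.2.2, smul_smul, map_smul, map_smul, LinearMap.map_smul₂, smul_eq_mul, smul_eq_mul,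
      smul_eq_mul]
    congr 3
    all_goals field_simp
  by_cases hmv : ∃ y ∈ Img K a g, ap T y ∉ Img K a g
  · obtain ⟨y, hy, hTy⟩ := hmv
    refine pair_of_mover hg ha ha0 ((hM.over hD).mem hT) hpI hxI hy hp0
      (fun f e => hxn (algebraMap F K f) (by rw [e, algebraMap_smul])) ?_ ?_ hTy
    · simpa [hTx, hp, hpx] using hpI
    · rw [hTx, hxp]
      simp only [zero_div, zero_smul, add_zero, div_self hq, one_smul]
      exact sub_mem hxI hpI
  push Not at hmv
  set S := Scal K (Img K a g) p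
  have hA : ∀ y ∈ Img K a g, β y p / β x x ∈ S := by
    intro y hy
    have h1 := sub_mem (hmv y hy) hy
    have h2 := sub_mem (hmv _ h1) h1
    have e : ap T (ap T y - y) - (ap T y - y) = -((β y p / β x x) • p) := by
      rw [hTx (ap T y - y), hTx y]
      simp only [map_add, map_sub, map_smul, LinearMap.add_apply, LinearMap.sub_apply,
        LinearMap.smul_apply, smul_eq_mul, hxp, hpx, hp]
      have := hD.twoK
      match_scalars <;> field_simp <;> ring
    rw [e] at h2
    exact mem_scal.2 (neg_mem_iff.1 h2)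
  have hb : ∀ y ∈ Img K a g, β y p = 0 → β y x / β x x ∈ S := by
    intro y hy h
    have h1 := sub_mem (hmv y hy) hy
    rw [hTx, h, zero_div, zero_div, zero_smul, add_zero, add_zero, sub_sub_cancel_left] at h1
    exact mem_scal.2 (neg_mem_iff.1 h1)
  set Aμ : K →ₗ[F] K := LinearMap.mulRight F (β x x)⁻¹ ∘ₗ Pairing β p a g
  set Bμ : K →ₗ[F] K := LinearMap.mulRight F (β x x)⁻¹ ∘ₗ Pairing β x a g
  have hAμ : ∀ μ, Aμ μ = β (ap g (μ • a)) p / β x x := fun μ => (div_eq_mul_inv _ _).symm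
  have hBμ : ∀ μ, Bμ μ = β (ap g (μ • a)) x / β x x := fun μ => (div_eq_mul_inv _ _).symm
  have a1 := LinearMap.finrank_range_add_finrank_ker Aμ
  have a2 : finrank F (LinearMap.range Aμ) ≤ finrank F S := Submodule.finrank_mono fun _ ⟨μ, e⟩ => by
    rw [← e, hAμ]; exact hA _ ⟨μ, rfl⟩
  set Bk := Bμ ∘ₗ (LinearMap.ker Aμ).subtype
  have b1 := LinearMap.finrank_range_add_finrank_ker Bk
  have b2 : finrank F (LinearMap.range Bk) ≤ finrank F S := Submodule.finrank_mono fun _ ⟨μ, e⟩ => by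
    have h0 : β (ap g ((μ : K) • a)) p / β x x = 0 := (hAμ μ).symm.trans μ.2
    rw [← e, show Bk μ = Bμ μ from rfl, hBμ]
    exact hb _ ⟨_, rfl⟩ ((div_eq_zero_iff.1 h0).resolve_right hq)
  set ψ : LinearMap.ker Bk →ₗ[F] V :=
    psi (K := K) a g ∘ₗ (LinearMap.ker Aμ).subtype ∘ₗ (LinearMap.ker Bk).subtype
  have hψ : Function.Injective ψ := fun μ ν e =>
    Subtype.ext (Subtype.ext (smul_left_injective K ha0 (ap_inj g e)))
  obtain ⟨w, v0, hH⟩ := hD.exists_hy hp hp0
  have hxv : β x v0 / β v0 v0 ≠ 0 := fun e => by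
    refine hxn (β x w) ?_
    conv_lhs => rw [hH.perp hD hxp, e, zero_smul, add_zero]
  have c1 : LinearMap.range ψ ≤ S.map ((LinearMap.toSpanSingleton K (ι → F) p).restrictScalars F) := by
    rintro _ ⟨⟨⟨μ, hμA⟩, hμB⟩, rfl⟩
    show ap g (μ • a) ∈ _
    obtain ⟨y, hy⟩ : ∃ y, y = ap g (μ • a) := ⟨_, rfl⟩
    have hyI : y ∈ Img K a g := ⟨μ, hy.symm⟩
    have hyp : β y p = 0 := by
      have h0 : β (ap g (μ • a)) p / β x x = 0 := (hAμ μ).symm.trans hμA
      rw [hy]; exact (div_eq_zero_iff.1 h0).resolve_right hq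
    have hyx : β y x = 0 := by
      have h0 : β (ap g (μ • a)) x / β x x = 0 := (hBμ μ).symm.trans hμB
      rw [hy]; exact (div_eq_zero_iff.1 h0).resolve_right hq
    have hyv : β y v0 / β v0 v0 = 0 := by
      have e := congrArg (β y) (hH.perp hD hxp)
      rw [hyx, map_add, map_smul, map_smul, hyp, smul_zero, zero_add, smul_eq_mul, eq_comm,
        mul_eq_zero] at e
      rw [e.resolve_left hxv, zero_div]
    have hyy : y = β y w • p := by
      conv_lhs => rw [hH.perp hD hyp, hyv, zero_smul, add_zero]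
    rw [← hy]
    refine ⟨β y w, mem_scal.2 ?_, ?_⟩
    · rw [← hyy]; exact hyI
    · rw [LinearMap.restrictScalars_apply, LinearMap.toSpanSingleton_apply, ← hyy]
  have c2 := (Submodule.finrank_mono c1).trans (Submodule.finrank_map_le _ _)
  rw [LinearMap.finrank_range_of_inj hψ] at c2
  have h3 := hD.three
  obtain ⟨μy, hμy⟩ : ∃ μ, Aμ μ ≠ 0 := by
    by_contra hc
    push Not at hc
    have e1 : finrank F (LinearMap.ker Aμ) = finrank F K := by
      rw [LinearMap.ker_eq_top.2 (LinearMap.ext hc), finrank_top]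
    omega
  by_cases hr : finrank F K = 3
  swap
  · exfalso
    obtain ⟨j, hj⟩ := hD.rodd
    omega
  -- degree three
  have h1S : (1 : K) ∈ S := mem_scal.2 (by rwa [one_smul])
  have hbase : ∀ z ∈ S, ∃ f : F, z = algebraMap F K f := fun z hz => by
    by_contra hc
    push Not at hc
    have hlt : Submodule.span F {(1 : K)} < S :=
      lt_of_le_not_ge ((Submodule.span_singleton_le_iff_mem _ _).2 h1S) fun h => by
        obtain ⟨f, hf⟩ := Submodule.mem_span_singleton.1 (h hz)
        exact hc f (by rw [← hf, Algebra.algebraMap_eq_smul_one])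
    have := Submodule.finrank_lt_finrank_of_lt hlt
    rw [finrank_span_singleton one_ne_zero] at this
    omega
  obtain ⟨y0, hy0⟩ : ∃ y0, y0 = ap g (μy • a) := ⟨_, rfl⟩
  rw [hAμ, ← hy0] at hμy
  have hy0I : y0 ∈ Img K a g := ⟨μy, hy0.symm⟩
  obtain ⟨f, hf⟩ := hbase _ (hA y0 hy0I)
  have hf0 : f ≠ 0 := fun e => hμy (by rw [hf, e, map_zero])
  obtain ⟨y1, hy1⟩ : ∃ y1, y1 = f⁻¹ • y0 := ⟨_, rfl⟩
  have hy1I : y1 ∈ Img K a g := hy1 ▸ Submodule.smul_mem _ _ hy0I
  have hy1p : β y1 p = β x x := by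
    rw [hy1, LinearMap.map_smul_of_tower, LinearMap.smul_apply, Algebra.smul_def, map_inv₀]
    rw [div_eq_iff hq] at hf
    have hfK : algebraMap F K f ≠ 0 := fun e => hf0 ((algebraMap F K).injective (by rw [e, map_zero]))
    rw [hf]
    field_simp
  have hd := sub_mem (hmv y1 hy1I) hy1I
  rw [hTx, hy1p, div_self hq, one_smul] at hd
  have hd' : (β y1 x / β x x + β x x / (2 * β x x)) • p ∈ Img K a g := by
    have h := sub_mem hxI hd
    have e : x - (y1 + x - (β y1 x / β x x + β x x / (2 * β x x)) • p - y1) =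
        (β y1 x / β x x + β x x / (2 * β x x)) • p := by abel
    rwa [e] at h
  obtain ⟨f', hf'⟩ := hbase _ (mem_scal.2 hd')
  obtain ⟨y2, hy2⟩ : ∃ y2, y2 = y1 - (f' - (2 : F)⁻¹) • x := ⟨_, rfl⟩
  have hy2I : y2 ∈ Img K a g := hy2 ▸ sub_mem hy1I (Submodule.smul_mem _ _ hxI)
  have hy2x : β y2 x = 0 := by
    rw [hy2, map_sub, LinearMap.sub_apply, LinearMap.map_smul_of_tower, LinearMap.smul_apply,
      Algebra.smul_def, map_sub, map_inv₀, map_ofNat, ← hf']
    have := hD.twoK
    field_simp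
    ring
  have hy2p : β y2 p = β x x := by
    rw [hy2, map_sub, LinearMap.sub_apply, LinearMap.map_smul_of_tower, LinearMap.smul_apply, hxp,
      smul_zero, sub_zero, hy1p]
  obtain ⟨y', hyI, hyx, hyy⟩ : ∃ y' ∈ Img K a g, β y' x = 0 ∧ β y' y' ≠ 0 := by
    by_cases h : β y2 y2 = 0
    · refine ⟨y2 + p, add_mem hy2I hpI, by rw [map_add, LinearMap.add_apply, hy2x, hpx, add_zero],
        ?_⟩
      simp only [map_add, LinearMap.add_apply, h, hp, hD.symm p y2, hy2p, zero_add, add_zero]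
      rw [← two_mul]
      exact mul_ne_zero hD.twoK hq
    · exact ⟨y2, hy2I, hy2x, h⟩
  obtain ⟨n, hfr⟩ := hD.exists_third (by rw [hD.symm]; exact hyx) hq hyy
  refine rich_of_orth hD hM hg ha ha0 hr hfr hxI hyI ⟨p, hpI, fun h => hp0 ?_⟩
  obtain ⟨k, hk⟩ : ∃ k : K, p = k • y' :=
    ⟨β p y' / β y' y', by
      conv_lhs => rw [hfr.expand hD p, hpx, h, zero_div, zero_div, zero_smul, zero_smul, zero_add,
        add_zero]⟩
  rw [hk, map_smul, LinearMap.map_smul₂, smul_eq_mul, smul_eq_mul, mul_eq_zero, mul_eq_zero] at hp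
  rw [hk, hp.elim id (fun e => e.resolve_right hyy), zero_smul]

/-- A fixed axis meets the image in at most one dimension. -/
theorem stab_small (hmove : ∃ μ : K, ∀ k : K, ap g (μ • a) ≠ k • ap g a) {e : V}
    (he : Stab β a g e) : Rich β M ∨ finrank F (Scal K (Img K a g) e) ≤ 1 := by
  classical
  by_cases hsmall : finrank F (Scal K (Img K a g) e) ≤ 1
  · exact Or.inr hsmall
  left
  have hperp : ∀ y ∈ Img K a g, y - (β y e / β e e) • e ∈ Img K a g ∧
      β (y - (β y e / β e e) • e) e = 0 := fun y hy =>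
    ⟨sub_mem hy (he.2 y hy), by
      rw [map_sub, LinearMap.sub_apply, LinearMap.map_smul₂, smul_eq_mul, div_mul_cancel₀ _ he.1,
        sub_self]⟩
  by_cases hy : ∃ y ∈ Img K a g, β y e = 0 ∧ β y y ≠ 0
  swap
  · -- the plane part is singular
    push Not at hy
    set L : K →ₗ[F] K := LinearMap.mulRight F (β e e)⁻¹ ∘ₗ Pairing β e a g
    have hL : ∀ μ, L μ = β (ap g (μ • a)) e / β e e := fun μ => (div_eq_mul_inv _ _).symm
    have hker : ∀ μ ∈ LinearMap.ker L, β (ap g (μ • a)) e = 0 := fun μ hμ => by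
      have h0 : β (ap g (μ • a)) e / β e e = 0 := (hL μ).symm.trans hμ
      exact (div_eq_zero_iff.1 h0).resolve_right he.1
    have l1 := LinearMap.finrank_range_add_finrank_ker L
    have l2 : finrank F (LinearMap.range L) ≤ finrank F (Scal K (Img K a g) e) :=
      Submodule.finrank_mono fun _ ⟨μ, h⟩ => by rw [← h, hL]; exact he.2 _ ⟨μ, rfl⟩
    have l3 := scal_le hD ha (g := g) he.1
    have := hD.three
    obtain ⟨μ0, hμ0, hμ00⟩ := Submodule.exists_mem_ne_zero_of_ne_bot
      (Submodule.one_le_finrank_iff.1 (show 1 ≤ finrank F (LinearMap.ker L) by omega))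
    have hp0 : ap g (μ0 • a) ≠ 0 := fun h =>
      hμ00 ((smul_eq_zero.1 (ap_inj g (h.trans (ap_zero g).symm))).resolve_right ha0)
    have hp : β (ap g (μ0 • a)) (ap g (μ0 • a)) = 0 := hy _ ⟨μ0, rfl⟩ (hker μ0 hμ0)
    refine caseS hD hg ha ha0 hmove hp hp0 ?_
    set p := ap g (μ0 • a) with hpd
    have c1 : (LinearMap.ker L).map (psi (K := K) a g) ≤
        (Scal K (Img K a g) p).map ((LinearMap.toSpanSingleton K (ι → F) p).restrictScalars F) := by
      rintro _ ⟨μ, hμ, rfl⟩
      rw [psi_apply]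
      obtain ⟨y, hyd⟩ : ∃ y, y = ap g (μ • a) := ⟨_, rfl⟩
      have hyI : y ∈ Img K a g := ⟨μ, hyd.symm⟩
      have hye : β y e = 0 := by rw [hyd]; exact hker μ hμ
      have hpe : β p e = 0 := hker μ0 hμ0
      have h := hy (y + p) (add_mem hyI ⟨μ0, rfl⟩)
        (by rw [map_add, LinearMap.add_apply, hye, hpe, add_zero])
      simp only [map_add, LinearMap.add_apply, hp, hy y hyI hye, hD.symm p y, zero_add,
        add_zero] at h
      rw [← two_mul] at h
      obtain ⟨k, hk⟩ := hD.line_of_orth hp hp0 (hy y hyI hye) ((mul_eq_zero.1 h).resolve_left hD.twoK)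
      rw [← hyd]
      refine ⟨k, mem_scal.2 ?_, hk.symm⟩
      rw [← hk]; exact hyI
    have c2 := (Submodule.finrank_mono c1).trans (Submodule.finrank_map_le _ _)
    have hψ : Function.Injective (psi (K := K) a g) := fun x y e =>
      smul_left_injective K ha0 (ap_inj g e)
    rw [← (Submodule.equivMapOfInjective _ hψ _).finrank_eq] at c2
    omega
  obtain ⟨y, hyI, hye, hyy⟩ := hy
  obtain ⟨b, c, hf⟩ := hD.exists_frame he.1
  obtain ⟨m, hm⟩ : ∃ m : K, ∀ f : F, m * m * β c c / β b b ≠ algebraMap F K f := by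
    by_contra hc
    push Not at hc
    exact div_ne_zero hf.qb hf.qa (eq_zero_of_sq hD.toExt fun k => by
      obtain ⟨f, hf'⟩ := hc k
      exact ⟨f, by rw [← mul_div_assoc, hf']⟩) |>.elim
  obtain ⟨d, hd⟩ : ∃ d, d = b + m • c := ⟨_, rfl⟩
  have hdd : β d d = β b b + m * m * β c c := by
    simp [hd, hf.ab, hD.symm c b]; ring
  have hd0 : β d d ≠ 0 := by
    rw [hdd]
    intro h
    refine hm (-1) ?_
    rw [map_neg, map_one]
    have := hf.qa
    field_simp
    linear_combination h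
  have hde : β d e = 0 := by simp [hd, hf.ac, hf.bc]
  obtain ⟨tb, htb⟩ := hD.exists_turn hf.qa
  obtain ⟨td, htd⟩ := hD.exists_turn hd0
  obtain ⟨ρ, hρ⟩ : ∃ ρ, ρ = tb * td := ⟨_, rfl⟩
  obtain ⟨ρ', hρ'⟩ : ∃ ρ', ρ' = td * tb := ⟨_, rfl⟩
  have hinv : ρ * ρ' = 1 ∧ ρ' * ρ = 1 := by
    constructor <;> rw [hρ, hρ', mul_assoc]
    · rw [← mul_assoc td, htd.sq hD, one_mul, htb.sq hD]
    · rw [← mul_assoc tb, htb.sq hD, one_mul, htd.sq hD]
  have hl : IsLinK K ρ := hρ ▸ (htb.lin hD).mul (htd.lin hD)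
  have hl' : IsLinK K ρ' := hρ' ▸ (htd.lin hD).mul (htb.lin hD)
  have hfix : ap ρ e = e ∧ ap ρ' e = e := by
    have e1 : ap tb e = -e := htb.apply_perp hD (by rw [hD.symm]; exact hf.ac)
    have e2 : ap td e = -e := htd.apply_perp hD (by rw [hD.symm]; exact hde)
    constructor
    · rw [hρ, ap_mul, e2, ← neg_one_smul K e, htb.lin hD, e1, neg_one_smul, neg_neg]
    · rw [hρ', ap_mul, e1, ← neg_one_smul K e, htd.lin hD, e2, neg_one_smul, neg_neg]
  set κ := 4 * β b b / β d d - 2 with hκ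
  have hsum : ∀ z, β z e = 0 → ap ρ z + ap ρ' z = κ • z := by
    intro z hz
    have hx := hf.expand hD z
    rw [hz, zero_div, zero_smul, add_zero] at hx
    rw [hρ, hρ', ap_mul, ap_mul, htb.2, htd.2 (ap tb z), htd.2 z, htb.2 z, hκ]
    simp only [map_sub, map_smul, LinearMap.sub_apply, LinearMap.smul_apply, smul_eq_mul]
    generalize β d d = dd at hdd hd0 ⊢
    rw [hd]
    simp only [map_add, map_smul, LinearMap.add_apply, LinearMap.smul_apply, smul_eq_mul, hf.ab,
      hD.symm c b]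
    generalize β z b = zb at hx ⊢
    generalize β z c = zc at hx ⊢
    rw [hx]
    have := hf.qa
    have := hf.qb
    match_scalars <;> field_simp <;> subst dd <;> ring
  have hsq : ∀ z, β z e = 0 → ap (ρ * ρ) z + ap (ρ' * ρ') z = (κ * κ - 2) • z := by
    intro z hz
    have hz1 : β (ap ρ z) e = 0 := by
      have h := hD.beta_ap hl z e; rw [hfix.1] at h; rw [h, hz]
    have hz2 : β (ap ρ' z) e = 0 := by
      have h := hD.beta_ap hl' z e; rw [hfix.2] at h; rw [h, hz]
    have e1 := hsum _ hz1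
    have e2 := hsum _ hz2
    rw [← ap_mul, ← ap_mul, hinv.2, ap_one] at e1
    rw [← ap_mul, ← ap_mul, hinv.1, ap_one] at e2
    have e3 := hsum z hz
    rw [sub_smul, ← smul_smul, ← e3, smul_add, ← e1, ← e2, two_smul]
    abel
  -- two fixed vectors
  obtain ⟨k1, hk1, hk10⟩ := Submodule.exists_mem_ne_zero_of_ne_bot (Submodule.one_le_finrank_iff.1
    (show 1 ≤ finrank F (Scal K (Img K a g) e) by omega))
  obtain ⟨k2, hk2, hk12⟩ : ∃ k2 ∈ Scal K (Img K a g) e, ∀ f : F, k2 ≠ f • k1 := by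
    by_contra hc
    push Not at hc
    have : finrank F (Scal K (Img K a g) e) ≤ 1 := by
      rw [← finrank_span_singleton (K := F) hk10]
      exact Submodule.finrank_mono fun x hx => by
        obtain ⟨f, hf⟩ := hc x hx
        exact Submodule.mem_span_singleton.2 ⟨f, hf.symm⟩
    omega
  have he0 : e ≠ 0 := fun h => he.1 (by simp [h])
  by_cases hmv : ∃ s : Grp Q, (s = ρ * ρ ∨ s = ρ' * ρ') ∧ ∃ z ∈ Img K a g, ap s z ∉ Img K a g
  · obtain ⟨s, hs, z, hz, hsz⟩ := hmv
    have hsl : IsLinK K s ∧ ap s e = e ∧ s ∈ M := by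
      rcases hs with rfl | rfl
      · exact ⟨hl.mul hl, by rw [ap_mul, hfix.1, hfix.1], hM.sq_mem hD hl⟩
      · exact ⟨hl'.mul hl', by rw [ap_mul, hfix.2, hfix.2], hM.sq_mem hD hl'⟩
    refine pair_of_mover hg ha ha0 hsl.2.2 (y1 := k1 • e) (y2 := k2 • e) hk1 hk2 hz
      (smul_ne_zero hk10 he0) (fun f h => hk12 f ?_) ?_ ?_ hsz
    · exact smul_left_injective K he0 (h.trans (smul_assoc f k1 e).symm)
    · rw [hsl.1, hsl.2.1]; exact hk1
    · rw [hsl.1, hsl.2.1]; exact hk2
  push Not at hmv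
  exfalso
  let S : Submodule F K :=
    { carrier := {k | ∀ z ∈ Img K a g, β z e = 0 → k • z ∈ Img K a g}
      add_mem' := fun {k l} hk hl z hz h => by rw [add_smul]; exact add_mem (hk z hz h) (hl z hz h)
      zero_mem' := fun z _ _ => by rw [zero_smul]; exact zero_mem _
      smul_mem' := fun f k hk z hz h => by
        rw [smul_assoc]; exact Submodule.smul_mem _ f (hk z hz h) }
  have h1 : (1 : K) ∈ S := fun z hz _ => by rwa [one_smul]
  have hmul : ∀ k l, k ∈ S → l ∈ S → k * l ∈ S := fun k l hk hl z hz h => by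
    rw [← smul_smul]
    exact hk _ (hl z hz h) (by rw [LinearMap.map_smul₂, h, smul_zero])
  have hκS : κ * κ - 2 ∈ S := fun z hz h => by
    rw [← hsq z h]; exact add_mem (hmv _ (Or.inl rfl) z hz) (hmv _ (Or.inr rfl) z hz)
  haveI := Subalgebra.isSimpleOrder_of_finrank_prime F K hD.deg
  rcases eq_bot_or_eq_top (S.toSubalgebra h1 hmul) with h | h
  · have hz : κ * κ - 2 ∈ S.toSubalgebra h1 hmul := hκS
    rw [h, Algebra.mem_bot] at hz
    obtain ⟨f, hf'⟩ := hz
    -- a quadratic element of an extension of odd degree lies in the base field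
    obtain ⟨f0, hf0⟩ : ∃ f0, κ = algebraMap F K f0 := by
      by_contra hκ'
      push Not at hκ'
      let T : Submodule F K := Submodule.span F {1, κ}
      have h1' : (1 : K) ∈ T := Submodule.subset_span (by simp)
      have hκT : κ ∈ T := Submodule.subset_span (by simp)
      have hκκ : κ * κ ∈ T := by
        rw [show κ * κ = (f + 2 : F) • (1 : K) by
          rw [Algebra.smul_def, mul_one, map_add, map_ofNat, hf']; ring]
        exact T.smul_mem _ h1'
      have hT : ∀ k l, k ∈ T → l ∈ T → k * l ∈ T := by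
        intro k l hk hl
        obtain ⟨k1, k2, rfl⟩ := Submodule.mem_span_pair.1 hk
        obtain ⟨l1, l2, rfl⟩ := Submodule.mem_span_pair.1 hl
        simp only [add_mul, mul_add, smul_mul_smul, one_mul, mul_one]
        exact add_mem (add_mem (T.smul_mem _ h1') (T.smul_mem _ hκT))
          (add_mem (T.smul_mem _ hκT) (T.smul_mem _ hκκ))
      rcases eq_bot_or_eq_top (T.toSubalgebra h1' hT) with h' | h'
      · have : κ ∈ T.toSubalgebra h1' hT := hκT
        rw [h', Algebra.mem_bot] at this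
        obtain ⟨f', hf''⟩ := this
        exact hκ' f' hf''.symm
      · have htop : T = ⊤ := by
          ext x
          exact ⟨fun _ => trivial, fun _ => (h' ▸ Algebra.mem_top : x ∈ T.toSubalgebra h1' hT)⟩
        have h3 := finrank_span_finset_le_card (R := F) ({1, κ} : Finset K)
        rw [Set.finrank, Finset.coe_pair, show Submodule.span F ({1, κ} : Set K) = T from rfl, htop,
          finrank_top] at h3
        have := h3.trans Finset.card_le_two
        have := hD.three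
        omega
    have hb : β b b + m * m * β c c ≠ 0 := hdd ▸ hd0
    have hκ2 : κ + 2 ≠ 0 := by
      rw [hκ, sub_add_cancel]
      exact div_ne_zero (mul_ne_zero (by
        rw [show (4 : K) = 2 * 2 by norm_num]; exact mul_ne_zero hD.twoK hD.twoK) hf.qa) hd0
    refine hm ((2 - f0) / (2 + f0)) ?_
    rw [map_div₀, map_sub, map_add, map_ofNat, ← hf0, eq_div_iff (by rwa [add_comm]), hκ]
    generalize β d d = dd at hdd hd0 ⊢
    have := hf.qa
    field_simp
    subst dd
    ring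
  · refine hyy (hD.t_zero fun k => ?_)
    have hk : k • y ∈ Img K a g := (h ▸ Algebra.mem_top : k ∈ S.toSubalgebra h1 hmul) y hyI hye
    have h' := img_iso hD ha hk hyI
    rwa [hD.b_smul] at h'

/-- The image lies in the plane orthogonal to an axis, whose half-turn fixes it. -/
theorem exists_axis (hmove : ∃ μ : K, ∀ k : K, ap g (μ • a) ≠ k • ap g a) (hR : ¬ Rich β M) :
    ∃ z : V, β z z ≠ 0 ∧ (∀ y ∈ Img K a g, β y z = 0) ∧
      ∀ x0 ∈ Img K a g, ∀ x' ∈ Img K a g, β x' x0 = 0 → β x0 x0 ≠ 0 → β x' x' ≠ 0 →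
        ¬ IsSquare (β x0 x0 * β z z) ∧ ¬ IsSquare (β x' x' * β z z) := by
  classical
  have := hD.three
  have hsmall : ∀ {e}, Stab β a g e → finrank F (Scal K (Img K a g) e) ≤ 1 := fun he =>
    (stab_small hD hM hg ha ha0 hmove he).resolve_left hR
  have huniq : ∀ {e e'}, Stab β a g e → Stab β a g e' → ∃ k : K, e' = k • e := by
    intro e e' he he'
    by_contra hne
    push Not at hne
    set L : K →ₗ[F] K × K := (LinearMap.mulRight F (β e e)⁻¹ ∘ₗ Pairing β e a g).prod
      (LinearMap.mulRight F (β e' e')⁻¹ ∘ₗ Pairing β e' a g)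
    have hL : ∀ μ, L μ = (β (ap g (μ • a)) e / β e e, β (ap g (μ • a)) e' / β e' e') := fun μ =>
      Prod.ext (div_eq_mul_inv _ _).symm (div_eq_mul_inv _ _).symm
    have l1 := LinearMap.finrank_range_add_finrank_ker L
    have l2 : finrank F (LinearMap.range L) ≤
        finrank F ((Scal K (Img K a g) e).prod (Scal K (Img K a g) e')) :=
      Submodule.finrank_mono fun _ ⟨μ, h⟩ => by
        rw [← h, hL]; exact ⟨he.2 _ ⟨μ, rfl⟩, he'.2 _ ⟨μ, rfl⟩⟩
    have l4 : finrank F ((Scal K (Img K a g) e).prod (Scal K (Img K a g) e')) ≤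
        finrank F (Scal K (Img K a g) e) + finrank F (Scal K (Img K a g) e') := by
      rw [← Module.finrank_prod]
      exact LinearMap.finrank_le_finrank_of_injective
        (f := (((LinearMap.fst F K K).domRestrict
            ((Scal K (Img K a g) e).prod (Scal K (Img K a g) e'))).codRestrict _ fun x => x.2.1).prod
          (((LinearMap.snd F K K).domRestrict
            ((Scal K (Img K a g) e).prod (Scal K (Img K a g) e'))).codRestrict _ fun x => x.2.2))
        fun x y h => Subtype.ext (Prod.ext (congrArg (fun z => (z.1 : K)) h)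
          (congrArg (fun z => (z.2 : K)) h))
    have s1 := hsmall he
    have s2 := hsmall he'
    obtain ⟨b, c, hf⟩ := hD.exists_frame he.1
    obtain ⟨x, hxd⟩ : ∃ x, x = β e' c • b - β e' b • c := ⟨_, rfl⟩
    have hline : ∀ y, β y e = 0 → β y e' = 0 → ∃ k : K, y = k • x := by
      intro y hye hye'
      have hx := hf.expand hD y
      rw [hye, zero_div, zero_smul, add_zero] at hx
      generalize β y b / β b b = y1 at hx
      generalize β y c / β c c = y2 at hx
      rw [hx, map_add, LinearMap.add_apply, LinearMap.map_smul₂, LinearMap.map_smul₂, hD.symm b e',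
        hD.symm c e', smul_eq_mul, smul_eq_mul] at hye'
      by_cases hb : β e' b = 0
      · have hc : β e' c ≠ 0 := fun hc => hne (β e' e / β e e) (by
          conv_lhs => rw [hf.expand hD e', hb, hc, zero_div, zero_div, zero_smul, zero_smul,
            zero_add, zero_add])
        rw [hb, mul_zero, zero_add, mul_eq_zero] at hye'
        exact ⟨y1 / β e' c, by rw [hx, hye'.resolve_right hc, hxd, hb, zero_smul, add_zero,
          sub_zero, smul_smul, div_mul_cancel₀ _ hc]⟩
      · refine ⟨-y2 / β e' b, ?_⟩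
        rw [hx, hxd, smul_sub, smul_smul, smul_smul, div_mul_cancel₀ _ hb, neg_smul, sub_neg_eq_add]
        congr 2
        field_simp
        linear_combination hye'
    have hψ : Function.Injective (psi (K := K) a g) := fun x y e =>
      smul_left_injective K ha0 (ap_inj g e)
    have c1 : (LinearMap.ker L).map (psi (K := K) a g) ≤
        (Scal K (Img K a g) x).map ((LinearMap.toSpanSingleton K (ι → F) x).restrictScalars F) := by
      rintro _ ⟨μ, hμ, rfl⟩
      have h0 := (hL μ).symm.trans hμ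
      obtain ⟨k, hk⟩ := hline (ap g (μ • a))
        ((div_eq_zero_iff.1 (congrArg Prod.fst h0)).resolve_right he.1)
        ((div_eq_zero_iff.1 (congrArg Prod.snd h0)).resolve_right he'.1)
      rw [psi_apply]
      refine ⟨k, mem_scal.2 ?_, hk.symm⟩
      rw [← hk]; exact ⟨μ, rfl⟩
    have c2 := (Submodule.finrank_mono c1).trans (Submodule.finrank_map_le _ _)
    rw [← (Submodule.equivMapOfInjective _ hψ _).finrank_eq] at c2
    by_cases hr3 : finrank F K = 3
    · obtain ⟨k1, hk1, hk10⟩ := Submodule.exists_mem_ne_zero_of_ne_bot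
        (Submodule.one_le_finrank_iff.1 (show 1 ≤ finrank F (Scal K (Img K a g) e) by
          by_contra h
          have hSx : finrank F (Scal K (Img K a g) x) ≤ 1 := by
            by_cases hxx : β x x = 0
            · by_contra h2
              refine hR (caseS hD hg ha ha0 hmove hxx (fun hx0 => ?_) (by omega))
              obtain ⟨μ, hμ, hμ0⟩ := Submodule.exists_mem_ne_zero_of_ne_bot
                (Submodule.one_le_finrank_iff.1 (show 1 ≤ finrank F (LinearMap.ker L) by omega))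
              obtain ⟨k, -, hk⟩ := c1 ⟨μ, hμ, rfl⟩
              exact hμ0 (hψ (hk.symm.trans (by simp [hx0])))
            · have := scal_le hD ha (g := g) hxx
              omega
          omega))
      obtain ⟨μ3, hμ3, hμ30⟩ := Submodule.exists_mem_ne_zero_of_ne_bot
        (Submodule.one_le_finrank_iff.1 (show 1 ≤ finrank F (LinearMap.ker L) by omega))
      have h0 := (hL μ3).symm.trans hμ3
      have h3e : β (ap g (μ3 • a)) e = 0 :=
        (div_eq_zero_iff.1 (congrArg Prod.fst h0)).resolve_right he.1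
      have h3e' : β (ap g (μ3 • a)) e' = 0 :=
        (div_eq_zero_iff.1 (congrArg Prod.snd h0)).resolve_right he'.1
      obtain ⟨y3, hy3⟩ : ∃ y3, y3 = ap g (μ3 • a) := ⟨_, rfl⟩
      rw [← hy3] at h3e h3e'
      have hy3I : y3 ∈ Img K a g := ⟨μ3, hy3.symm⟩
      have hy30 : y3 ≠ 0 := fun e0 => hμ30 ((smul_eq_zero.1 (ap_inj g
        ((hy3.symm.trans e0).trans (ap_zero g).symm))).resolve_right ha0)
      have hk1q : β (k1 • e) (k1 • e) ≠ 0 := by
        rw [map_smul, LinearMap.map_smul₂]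
        exact mul_ne_zero hk10 (mul_ne_zero hk10 he.1)
      by_cases h33 : β y3 y3 = 0
      · refine hR (caseT hD hM hg ha ha0 hmove hy3I h33 hy30 (mem_scal.1 hk1) ?_ fun k hk => hk1q ?_)
        · rw [LinearMap.map_smul₂, hD.symm, h3e, smul_zero]
        · rw [hk, map_smul, LinearMap.map_smul₂, h33, smul_zero, smul_zero]
      -- a vector of the plane of the two axes
      obtain ⟨k2, hk2, hk20⟩ := Submodule.exists_mem_ne_zero_of_ne_bot
        (Submodule.one_le_finrank_iff.1 (show 1 ≤ finrank F (Scal K (Img K a g) e') by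
          by_contra h
          have hSx : finrank F (Scal K (Img K a g) x) ≤ 1 := by
            by_cases hxx : β x x = 0
            · obtain ⟨k, hk⟩ := hline y3 h3e h3e'
              exact absurd (by rw [hk, map_smul, LinearMap.map_smul₂, hxx, smul_zero, smul_zero]) h33
            · have := scal_le hD ha (g := g) hxx
              omega
          omega))
      obtain ⟨y2, hy2⟩ : ∃ y2, y2 = k2 • e' - (β (k2 • e') e / β e e) • e := ⟨_, rfl⟩
      have hy2I : y2 ∈ Img K a g := hy2 ▸ sub_mem (mem_scal.1 hk2) (he.2 _ (mem_scal.1 hk2))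
      have hy2e : β y2 e = 0 := by
        rw [hy2, map_sub, LinearMap.sub_apply, LinearMap.map_smul₂ β (β (k2 • e') e / β e e),
          smul_eq_mul, div_mul_cancel₀ _ he.1, sub_self]
      have hy20 : y2 ≠ 0 := fun e0 => by
        rw [hy2, sub_eq_zero] at e0
        refine hne ((β (k2 • e') e / β e e) / k2) ?_
        rw [div_eq_inv_mul, ← smul_smul, ← e0, smul_smul, inv_mul_cancel₀ hk20, one_smul]
      have h23 : β y3 y2 = 0 := by
        rw [hy2, map_sub, map_smul, map_smul, h3e, h3e', smul_zero, smul_zero, sub_zero]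
      have hy2q : β y2 y2 ≠ 0 := fun h => hy20 (hD.eq_zero_of_orth (a := e) (b := y3)
        (by rw [hD.symm]; exact h3e) he.1 h33 (by rw [hD.symm]; exact hy2e) h23 hy20 hy2e
        (by rw [hD.symm]; exact h23) h)
      have hfr : Frame β (k1 • e) y2 y3 :=
        ⟨by rw [LinearMap.map_smul₂, hD.symm, hy2e, smul_zero],
          by rw [LinearMap.map_smul₂, hD.symm, h3e, smul_zero], by rw [hD.symm]; exact h23,
          hk1q, hy2q, h33⟩
      exact hR (rich_of_orth hD hM hg ha ha0 hr3 hfr (mem_scal.1 hk1) hy2I ⟨y3, hy3I, h33⟩)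
    have h5 : 5 ≤ finrank F K := by
      obtain ⟨j, hj⟩ := hD.rodd
      omega
    by_cases hxx : β x x = 0
    · refine hR (caseS hD hg ha ha0 hmove hxx (fun hx0 => ?_) (by omega))
      rw [hx0] at c1
      obtain ⟨μ, hμ, hμ0⟩ := Submodule.exists_mem_ne_zero_of_ne_bot (Submodule.one_le_finrank_iff.1
        (show 1 ≤ finrank F (LinearMap.ker L) by omega))
      obtain ⟨k, -, hk⟩ := c1 ⟨μ, hμ, rfl⟩
      exact hμ0 (hψ (hk.symm.trans (by simp)))
    · have := scal_le hD ha (g := g) hxx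
      omega
  have haxes : ∀ x0 ∈ Img K a g, ∀ x' ∈ Img K a g, β x' x0 = 0 → β x0 x0 ≠ 0 → β x' x' ≠ 0 →
      ∀ z, Frame β x0 x' z →
        (IsSquare (β x0 x0 * β x' x') → Stab β a g z) ∧
        (IsSquare (β x0 x0 * β z z) → Stab β a g x') ∧
        (IsSquare (β x' x' * β z z) → Stab β a g x0) := by
    intro x0 h0 x' h' hxx q0 q' z hf
    have h00 : x0 ≠ 0 := fun e => q0 (by simp [e])
    have hind : ∀ f : F, x' ≠ f • x0 := fun f e => by
      rw [e, LinearMap.map_smul_of_tower, LinearMap.smul_apply, smul_eq_zero] at hxx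
      exact q' (by rw [e, hxx.resolve_right q0]; simp)
    refine ⟨fun h => ?_, fun h => ?_, fun h => ?_⟩
    · exact (stab_of_frame hD hM hg ha ha0 hf h h0 h' h00 hind (Or.inl hf.ac)
        (Or.inl hf.bc)).resolve_left hR
    · exact (stab_of_frame hD hM hg ha ha0 ((hf.rot hD).rot hD) (by rwa [mul_comm]) h0 h' h00 hind
        (Or.inl hf.ab) (Or.inr ⟨1, (one_smul K x').symm⟩)).resolve_left hR
    · exact (stab_of_frame hD hM hg ha ha0 (hf.rot hD) h h0 h' h00 hind
        (Or.inr ⟨1, (one_smul K x0).symm⟩) (Or.inl hxx)).resolve_left hR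
  have haniso : ∀ x ∈ Img K a g, β x x ≠ 0 → ∃ x' ∈ Img K a g, β x' x = 0 ∧ β x' x' ≠ 0 := by
    intro x hx hqx
    obtain ⟨x', hx', hx'0, hxx⟩ := exists_partner hD ha ha0 hx
    refine ⟨x', hx', hxx, fun h => hR ?_⟩
    refine caseT hD hM hg ha ha0 hmove hx' h hx'0 hx (by rw [hD.symm]; exact hxx) fun k e => hqx ?_
    rw [e, map_smul, LinearMap.map_smul₂, h, smul_zero, smul_zero]
  obtain ⟨x0, h0, q0⟩ := exists_aniso hD ha ha0 hmove
  obtain ⟨x', h', hxx, q'⟩ := haniso x0 h0 q0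
  obtain ⟨z, hf⟩ := hD.exists_third (by rw [hD.symm]; exact hxx) q0 q'
  obtain ⟨z0, hz0⟩ : ∃ z0, Stab β a g z0 := by
    obtain ⟨e1, e2, e3⟩ := haxes x0 h0 x' h' hxx q0 q' z hf
    rcases hD.sq_pair (a := β x0 x0) (b := β x' x') (c := β z z) with h | h | h
    · exact ⟨z, e1 h⟩
    · exact ⟨x', e2 h⟩
    · exact ⟨x0, e3 h⟩
  have hdich : ∀ x ∈ Img K a g, β x x ≠ 0 → (∃ k : K, x = k • z0) ∨ β x z0 = 0 := by
    intro x hx qx
    obtain ⟨y, hy, hyx, qy⟩ := haniso x hx qx
    obtain ⟨z1, hf1⟩ := hD.exists_third (by rw [hD.symm]; exact hyx) qx qy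
    obtain ⟨e1, e2, e3⟩ := haxes x hx y hy hyx qx qy z1 hf1
    rcases hD.sq_pair (a := β x x) (b := β y y) (c := β z1 z1) with h | h | h
    · obtain ⟨k, hk⟩ := huniq (e1 h) hz0
      exact Or.inr (by rw [hk, map_smul, hf1.ac, smul_zero])
    · obtain ⟨k, hk⟩ := huniq (e2 h) hz0
      exact Or.inr (by rw [hk, map_smul, hf1.ab, smul_zero])
    · obtain ⟨k, hk⟩ := huniq hz0 (e3 h)
      exact Or.inl ⟨k, hk⟩
  have hplane : ∀ y ∈ Img K a g, β y z0 = 0 := by
    intro w hw
    by_contra hwz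
    obtain ⟨g0, hg0⟩ : ∃ g0, g0 = (β w z0 / β z0 z0) • z0 := ⟨_, rfl⟩
    have hg0I : g0 ∈ Img K a g := hg0 ▸ hz0.2 w hw
    set c := β g0 g0 with hc
    have hgz : β g0 z0 ≠ 0 := by
      rw [hg0, LinearMap.map_smul₂, smul_eq_mul, div_mul_cancel₀ _ hz0.1]; exact hwz
    have hc0 : c ≠ 0 := by
      rw [hc, hg0, map_smul, LinearMap.map_smul₂]
      exact mul_ne_zero (div_ne_zero hwz hz0.1) (mul_ne_zero (div_ne_zero hwz hz0.1) hz0.1)
    have key : ∀ y ∈ Img K a g, β y z0 = 0 → y ≠ 0 → β y y = -c := by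
      intro y hy hyz hy0
      have hyg : β y g0 = 0 := by rw [hg0, map_smul, hyz, smul_zero]
      have hs : β (g0 + y) (g0 + y) = 0 := by
        by_contra hq
        rcases hdich _ (add_mem hg0I hy) hq with ⟨k, hk⟩ | h
        · refine hy0 ?_
          have h := congrArg (fun x => β x z0) hk
          simp only [map_add, LinearMap.add_apply, hyz, add_zero, LinearMap.map_smul₂,
            smul_eq_mul] at h
          rw [hg0, LinearMap.map_smul₂, smul_eq_mul, div_mul_cancel₀ _ hz0.1] at h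
          rwa [hg0, h, mul_div_cancel_right₀ _ hz0.1, add_eq_left] at hk
        · rw [map_add, LinearMap.add_apply, hyz, add_zero] at h
          exact hgz h
      simp only [map_add, LinearMap.add_apply, hD.symm g0 y, hyg, zero_add, add_zero] at hs
      linear_combination hs
    set L : K →ₗ[F] K := LinearMap.mulRight F (β z0 z0)⁻¹ ∘ₗ Pairing β z0 a g
    have l1 := LinearMap.finrank_range_add_finrank_ker L
    have l2 : finrank F (LinearMap.range L) ≤ 1 := le_trans (Submodule.finrank_mono fun _ ⟨μ, h⟩ => by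
      rw [← h, show L μ = β (ap g (μ • a)) z0 / β z0 z0 from (div_eq_mul_inv _ _).symm]
      exact hz0.2 _ ⟨μ, rfl⟩) (hsmall hz0)
    have hker : ∀ μ ∈ LinearMap.ker L, β (ap g (μ • a)) z0 = 0 := fun μ hμ =>
      (mul_eq_zero.1 (LinearMap.mem_ker.1 hμ)).resolve_right (inv_ne_zero hz0.1)
    obtain ⟨μ1, hμ1, hμ10⟩ := Submodule.exists_mem_ne_zero_of_ne_bot (Submodule.one_le_finrank_iff.1
      (show 1 ≤ finrank F (LinearMap.ker L) by omega))
    obtain ⟨μ2, hμ2, hμ12⟩ : ∃ μ2 ∈ LinearMap.ker L, μ2 ∉ Submodule.span F {μ1} := by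
      by_contra hcon
      push Not at hcon
      have := (Submodule.finrank_mono hcon).trans (finrank_span_singleton (K := F) hμ10).le
      omega
    have hne : ∀ μ : K, μ ≠ 0 → ap g (μ • a) ≠ 0 := fun μ hμ e =>
      hμ ((smul_eq_zero.1 (ap_inj g (e.trans (ap_zero g).symm))).resolve_right ha0)
    have hp : μ1 + μ2 ≠ 0 := fun e => hμ12 (Submodule.mem_span_singleton.2
      ⟨-1, by rw [neg_one_smul]; linear_combination -e⟩)
    have hm : μ1 - μ2 ≠ 0 := fun e => hμ12 (Submodule.mem_span_singleton.2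
      ⟨1, by rw [one_smul]; linear_combination e⟩)
    have k1 := key _ ⟨μ1, rfl⟩ (hker μ1 hμ1) (hne _ hμ10)
    have k2 := key _ ⟨μ2, rfl⟩ (hker μ2 hμ2) (hne _ fun e => hμ12 (by rw [show μ2 = 0 from e]; exact zero_mem _))
    have k3 := key (ap g ((μ1 + μ2) • a)) ⟨μ1 + μ2, rfl⟩ (hker (μ1 + μ2) (add_mem hμ1 hμ2)) (hne (μ1 + μ2) hp)
    have k4 := key (ap g ((μ1 - μ2) • a)) ⟨μ1 - μ2, rfl⟩ (hker (μ1 - μ2) (sub_mem hμ1 hμ2)) (hne (μ1 - μ2) hm)
    simp only [psi_apply, add_smul, sub_smul, ap_add, ap_sub, map_add, map_sub, LinearMap.add_apply,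
      LinearMap.sub_apply] at k1 k2 k3 k4
    have h2c : (2 : K) * c = 0 := by linear_combination -(k3 + k4 - 2 * k1 - 2 * k2)
    exact hc0 ((mul_eq_zero.1 h2c).resolve_left hD.twoK)
  refine ⟨z0, hz0.1, hplane, fun y0 hy0 y' hy' hyy p0 p' => ?_⟩
  have hfy : Frame β y0 y' z0 :=
    ⟨by rw [hD.symm]; exact hyy, hplane _ hy0, hplane _ hy', p0, p', hz0.1⟩
  obtain ⟨-, e2, e3⟩ := haxes y0 hy0 y' hy' hyy p0 p' z0 hfy
  constructor <;> intro h
  · obtain ⟨k, hk⟩ := huniq hz0 (e2 h)
    exact p' (by rw [hk, map_smul, ← hk, hplane _ hy', smul_zero])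
  · obtain ⟨k, hk⟩ := huniq hz0 (e3 h)
    exact p0 (by rw [hk, map_smul, ← hk, hplane _ hy0, smul_zero])

omit hg in
/-- A plane containing a singular vector. -/
theorem rich_of_isotropic (hg : g ∈ M) (hmove : ∃ μ : K, ∀ k : K, ap g (μ • a) ≠ k • ap g a)
    {z : V} (hz : β z z ≠ 0) (hplane : ∀ y ∈ Img K a g, β y z = 0) {s : V} (hs : β s s = 0)
    (hs0 : s ≠ 0) (hsz : β s z = 0) : Rich β M := by
  classical
  -- a hyperbolic pair in the plane
  obtain ⟨y1, hy1, hsy⟩ : ∃ y, β y z = 0 ∧ β s y = 1 := by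
    by_contra hc
    push Not at hc
    refine hs0 (hD.beta_nd fun y => ?_)
    by_contra hne
    refine hc ((β s y)⁻¹ • (y - (β y z / β z z) • z)) ?_ ?_
    · rw [LinearMap.map_smul₂, map_sub, LinearMap.sub_apply, LinearMap.map_smul₂, smul_eq_mul,
        smul_eq_mul, div_mul_cancel₀ _ hz, sub_self, mul_zero]
    · rw [map_smul, map_sub, map_smul, hsz, smul_zero, sub_zero, smul_eq_mul, inv_mul_cancel₀ hne]
  obtain ⟨s', hs'd⟩ : ∃ s', s' = y1 - (β y1 y1 / 2) • s := ⟨_, rfl⟩
  have hH : Hy β s s' z := by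
    refine ⟨hs, ?_, ?_, hsz, ?_, hz⟩
    · simp [hs'd, hs, hsy, hD.symm y1 s]
      have := hD.twoK
      field_simp
      ring
    · simp [hs'd, hs, hsy]
    · simp [hs'd, hy1, hsz]
  set A : K →ₗ[F] K := Pairing β s' a g
  set C : K →ₗ[F] K := Pairing β s a g
  have hexp : ∀ μ, ap g (μ • a) = A μ • s + C μ • s' := fun μ => by
    conv_lhs => rw [hH.expand hD (ap g (μ • a)), hplane (ap g (μ • a)) ⟨μ, rfl⟩, zero_div, zero_smul, add_zero]
    rfl
  have hBI : ∀ μ ν, t (A μ * C ν + C μ * A ν) = 0 := fun μ ν => by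
    have h := img_iso hD ha (g := g) ⟨μ, rfl⟩ ⟨ν, rfl⟩
    rw [psi_apply, psi_apply, ← hD.spec, hexp μ, hexp ν] at h
    rw [← h]
    congr 1
    simp [hs, hH.ww, hH.uw, hD.symm s' s]
  obtain ⟨μ0, hμ00, hω⟩ := exists_ker_of_skew (E := K) hD.two hD.rodd
    (LinearMap.mk₂ F (fun μ ν => t (A μ * C ν) - t (C μ * A ν))
      (fun x y ν => by simp only [map_add, add_mul]; ring)
      (fun f x ν => by simp only [map_smul, smul_mul_assoc, map_smul, smul_eq_mul]; ring)
      (fun μ x y => by simp only [map_add, mul_add]; ring)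
      (fun f μ x => by simp only [map_smul, mul_smul_comm, map_smul, smul_eq_mul]; ring))
    (fun x y => by simp only [LinearMap.mk₂_apply, mul_comm (A x), mul_comm (C x)]; ring)
  have hzero : ∀ ν, t (A μ0 * C ν) = 0 ∧ t (C μ0 * A ν) = 0 := fun ν => by
    have h1 : t (A μ0 * C ν) - t (C μ0 * A ν) = 0 := hω ν
    have h2 := hBI μ0 ν
    rw [map_add] at h2
    have h3 : (2 : F) * t (A μ0 * C ν) = 0 := by linear_combination h1 + h2
    have h4 := (mul_eq_zero.1 h3).resolve_left hD.two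
    exact ⟨h4, by linear_combination h2 - h4⟩
  -- points orthogonal to the image in the plane lie in it
  have hmax : ∀ x, β x z = 0 → β x x = 0 → (∀ y ∈ Img K a g, B x y = 0) → x ∈ Img K a g := by
    intro x hxz hxx hx
    set W := Img K a g ⊔ Submodule.span F {x}
    have hle : W ⊔ LinearMap.range (psi (K := K) z (1 : Grp Q)) ≤ orth Q W := by
      refine sup_le (sup_le ?_ ?_) ?_
      · intro y hy w hw
        obtain ⟨w1, hw1, w2, hw2, rfl⟩ := Submodule.mem_sup.1 hw
        obtain ⟨f, rfl⟩ := Submodule.mem_span_singleton.1 hw2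
        show B _ y = 0
        rw [b_add_left, b_smul_left, img_iso hD ha hw1 hy, hx y hy]
        ring
      · rw [Submodule.span_singleton_le_iff_mem]
        intro w hw
        obtain ⟨w1, hw1, w2, hw2, rfl⟩ := Submodule.mem_sup.1 hw
        obtain ⟨f, rfl⟩ := Submodule.mem_span_singleton.1 hw2
        show B _ x = 0
        rw [b_add_left, b_smul_left, b_comm w1, hx _ hw1, ← hD.spec x x, hxx, map_zero]
        ring
      · rintro _ ⟨k, rfl⟩ w hw
        obtain ⟨w1, hw1, w2, hw2, rfl⟩ := Submodule.mem_sup.1 hw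
        obtain ⟨f, rfl⟩ := Submodule.mem_span_singleton.1 hw2
        show B _ _ = 0
        rw [psi_one, b_add_left, b_smul_left, hD.b_smul', hplane _ hw1, hD.b_smul', hxz]
        simp
    have hdis : W ⊓ LinearMap.range (psi (K := K) z (1 : Grp Q)) = ⊥ := by
      rw [eq_bot_iff]
      rintro w ⟨hw, k, rfl⟩
      obtain ⟨w1, hw1, w2, hw2, e⟩ := Submodule.mem_sup.1 hw
      obtain ⟨f, rfl⟩ := Submodule.mem_span_singleton.1 hw2
      rw [psi_one] at e ⊢
      have h := congrArg (fun v => β v z) e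
      simp only [map_add, LinearMap.add_apply, hplane _ hw1, LinearMap.map_smul_of_tower,
        LinearMap.smul_apply, hxz, smul_zero, add_zero, LinearMap.map_smul₂, smul_eq_mul] at h
      rw [(mul_eq_zero.1 h.symm).resolve_right hz, zero_smul]
      exact Submodule.zero_mem _
    have d1 := Submodule.finrank_mono hle
    have d2 := Submodule.finrank_sup_add_finrank_inf_eq W (LinearMap.range (psi (K := K) z (1 : Grp Q)))
    rw [hdis, finrank_bot] at d2
    have hψ : ∀ {p : V} {h : Grp Q}, p ≠ 0 → finrank F (Img K p h) = finrank F K := fun hp =>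
      LinearMap.finrank_range_of_inj fun x y e => smul_left_injective K hp (ap_inj _ e)
    have d3 : finrank F (LinearMap.range (psi (K := K) z (1 : Grp Q))) = finrank F K :=
      hψ (fun e => hz (by simp [e]))
    have d4 := finrank_orth hD.nd W
    have d5 : finrank F (ι → F) = 3 * finrank F K := by
      haveI := hD.finiteK
      rw [← Module.finrank_mul_finrank F K (ι → F), hD.eq3, mul_comm]
    have d6 : finrank F W ≤ finrank F (Img K a g) := by
      rw [hψ ha0]; omega
    have hWI := Submodule.eq_of_le_of_finrank_le (le_sup_left : Img K a g ≤ W) d6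
    rw [hWI]
    exact Submodule.mem_sup_right (Submodule.mem_span_singleton_self x)
  obtain ⟨p, hp, hp0, hpp, hpz⟩ : ∃ p ∈ Img K a g, p ≠ 0 ∧ β p p = 0 ∧ β p z = 0 := by
    have hperp : ∀ ν, B (A μ0 • s) (ap g (ν • a)) = 0 ∧ B (C μ0 • s') (ap g (ν • a)) = 0 := fun ν => by
      constructor
      · rw [hD.b_smul, hD.symm, ← pairing_apply]; exact (hzero ν).1
      · rw [hD.b_smul, hD.symm, ← pairing_apply]; exact (hzero ν).2
    by_cases hA0 : A μ0 = 0
    · have hne : C μ0 • s' ≠ 0 := fun e => hμ00 ((smul_eq_zero.1 (ap_inj g ((hexp μ0).trans (by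
        rw [hA0, zero_smul, zero_add, e, ap_zero])))).resolve_right ha0)
      refine ⟨_, hmax _ (by simp [hH.wv]) (by simp [hH.ww]) ?_, hne, by simp [hH.ww],
        by simp [hH.wv]⟩
      rintro _ ⟨ν, rfl⟩; exact (hperp ν).2
    · refine ⟨_, hmax (A μ0 • s) (by simp [hsz]) (by simp [hs]) ?_, smul_ne_zero hA0 hs0, by simp [hs],
        by simp [hsz]⟩
      rintro _ ⟨ν, rfl⟩; exact (hperp ν).1
  obtain ⟨μp, hμp⟩ := mem_img.1 hp
  have hμp0 : μp ≠ 0 := fun e => hp0 (by rw [← hμp, e, zero_smul, ap_zero])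
  set P : K →ₗ[F] K := Pairing β p a g
  have hPp : P μp = 0 := by rw [show P μp = β (ap g (μp • a)) p from rfl, hμp, hpp]
  obtain ⟨μy, hμy⟩ : ∃ μ, P μ ≠ 0 := by
    by_contra hc
    push Not at hc
    obtain ⟨μ, hμ⟩ := hmove
    have hline : ∀ ν, ∃ k : K, ap g (ν • a) = k • p := fun ν => by
      obtain ⟨w, v0, h⟩ := hD.exists_hy hpp hp0
      have hy : β (ap g (ν • a)) p = 0 := hc ν
      obtain ⟨kz, ez⟩ : ∃ k, z = β z w • p + k • v0 := ⟨_, h.perp hD (by rw [hD.symm]; exact hpz)⟩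
      have hkz : kz ≠ 0 := fun e => hz (by rw [ez, e, zero_smul, add_zero]; simp [hpp])
      have hv : β (ap g (ν • a)) v0 = 0 := by
        have h' := hplane _ ⟨ν, rfl⟩
        rw [psi_apply, ez, map_add, map_smul, map_smul, hy, smul_zero, zero_add, smul_eq_zero] at h'
        exact h'.resolve_left hkz
      exact ⟨_, by conv_lhs => rw [h.perp hD hy, hv, zero_div, zero_smul, add_zero]⟩
    obtain ⟨k1, hk1⟩ := hline 1
    obtain ⟨k, hk⟩ := hline μ
    rw [one_smul] at hk1
    have hk10 : k1 ≠ 0 := fun e => ha0 (ap_inj g (by rw [hk1, e, zero_smul, ap_zero]))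
    exact hμ (k / k1) (by rw [hk, hk1, smul_smul, div_mul_cancel₀ _ hk10])
  obtain ⟨c, hc0, hc⟩ : ∃ c : K, c ≠ 0 ∧ ∀ ν, t (c * P ν) = 0 := by
    set Φ : K →ₗ[F] Module.Dual F K := ((LinearMap.mul F K).compr₂ t).compl₂ P
    by_contra hcon
    push Not at hcon
    have hinj : Function.Injective Φ := by
      rw [← LinearMap.ker_eq_bot, LinearMap.ker_eq_bot']
      intro x hx
      by_contra hx0
      obtain ⟨ν, hν⟩ := hcon x hx0
      exact hν (LinearMap.congr_fun hx ν)
    obtain ⟨f, hf, -⟩ := Submodule.exists_le_ker_of_notMem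
      (show μp ∉ (⊥ : Submodule F K) by simpa using hμp0)
    obtain ⟨x, hx⟩ := (LinearMap.injective_iff_surjective_of_finrank_eq_finrank
      Subspace.dual_finrank_eq.symm).1 hinj f
    refine hf ?_
    rw [← hx, show Φ x μp = t (x * P μp) from rfl, hPp, mul_zero, map_zero]
  obtain ⟨f, lam, hf0, hlam, e⟩ := hD.exists_class
    (show 2 * c / (β z z * P μy) ≠ 0 from
      div_ne_zero (mul_ne_zero hD.twoK hc0) (mul_ne_zero hz hμy))
  obtain ⟨T, hT⟩ := hD.exists_isK hpp (v := lam • z) (by rw [map_smul, hpz, smul_zero])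
  set g2 := g⁻¹ * T * g with hg2
  have hg2M : g2 ∈ M := M.mul_mem (M.mul_mem (M.inv_mem hg) ((hM.over hD).mem hT)) hg
  set y := ap g (μy • a) with hy
  have hyP : β y p = P μy := rfl
  have hTy : ap T y = y + (P μy * lam) • z - (lam * lam * β z z / 2 * P μy) • p := by
    rw [hT.2.2, hyP, smul_smul, map_smul, map_smul, LinearMap.map_smul₂, hplane y ⟨μy, rfl⟩]
    simp [mul_assoc]
  have hTn : ap T y ∉ Img K a g := fun h => by
    have h' := hplane _ h
    simp [hTy, show β y z = 0 from hplane _ ⟨μy, rfl⟩, hpz, hμy, hlam, hz] at h'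
  have hTperp : ∀ ν, B (ap T y) (ap g (ν • a)) = 0 := fun ν => by
    have e' : lam * lam * β z z / 2 * P μy = (f⁻¹ : F) • c := by
      rw [Algebra.smul_def, map_inv₀]
      have hfK : algebraMap F K f ≠ 0 := fun e' => hf0 ((algebraMap F K).injective (by rw [e', map_zero]))
      rw [Algebra.smul_def] at e
      have := hD.twoK
      field_simp at e ⊢
      linear_combination -e
    rw [hTy, b_sub_left, b_add_left, img_iso hD ha (show y ∈ Img K a g from ⟨μy, rfl⟩) (show ap g (ν • a) ∈ Img K a g from ⟨ν, rfl⟩), hD.b_smul,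
      hD.symm z, hplane (ap g (ν • a)) ⟨ν, rfl⟩, e', smul_assoc, b_smul_left, hD.b_smul, hD.symm p]
    rw [show β (ap g (ν • a)) p = P ν from rfl, hc ν]
    simp
  have hp2 : ap g2 (μp • a) = μp • a := by
    rw [hg2, ap_mul, ap_mul, hμp, hT.2.2, hpp, map_smul, hpz]
    simp [← hμp, ap_inv_ap]
  have hx2 : ∀ k : K, ap g2 (μy • a) ≠ k • a := fun k e' => hTn ⟨k, by
    rw [psi_apply, ← e', hg2, ap_mul, ap_mul, ap_ap_inv, ← hy]⟩
  refine caseT hD hM hg2M ha ha0 ?_ (p := μp • a) (x := ap g2 (μy • a)) ⟨μp, hp2⟩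
    (by simp [ha]) (smul_ne_zero hμp0 ha0) ⟨μy, rfl⟩ ?_ ?_
  · by_contra hcon
    push Not at hcon
    obtain ⟨k, hk⟩ := hcon μp
    rw [hp2] at hk
    have hk0 : k ≠ 0 := fun e' => smul_ne_zero hμp0 ha0 (by rw [hk, e', zero_smul])
    obtain ⟨k', hk'⟩ := hcon μy
    refine hx2 (k' / k * μp) ?_
    rw [hk', ← smul_smul, hk, smul_smul, div_mul_cancel₀ _ hk0]
  · refine hD.beta_zero_iff.2 fun k => ?_
    have h := hTperp (k * μp)
    rw [← ap_b g⁻¹, ap_inv_ap] at h
    rw [smul_smul, hg2, ap_mul, ap_mul, ← hy]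
    exact h
  · intro k e'
    exact hx2 (k * μp) (by rw [e', smul_smul])

/-- A moved singular line gives two images meeting in two dimensions. -/
theorem rich_of_moved (hmove : ∃ μ : K, ∀ k : K, ap g (μ • a) ≠ k • ap g a) : Rich β M := by
  classical
  by_contra hR
  obtain ⟨z, hz, hplane, hcls⟩ := exists_axis hD hM hg ha ha0 hmove hR
  obtain ⟨x0, h0, q0⟩ := exists_aniso hD ha ha0 hmove
  obtain ⟨x', h', hx'0, hxx⟩ := exists_partner hD ha ha0 h0
  by_cases hiso : ∃ s, β s z = 0 ∧ β s s = 0 ∧ s ≠ 0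
  · obtain ⟨s, hsz, hs, hs0⟩ := hiso
    exact hR (rich_of_isotropic hD hM ha ha0 hg hmove hz hplane hs hs0 hsz)
  push Not at hiso
  have q' : β x' x' ≠ 0 := fun h => hx'0 (hiso x' (hplane _ h') h)
  obtain ⟨n0, n'⟩ := hcls x0 h0 x' h' hxx q0 q'
  have hsq : IsSquare (β x0 x0 * β x' x') := by
    rcases hD.sq_pair (a := β x0 x0) (b := β x' x') (c := β z z) with h | h | h
    · exact h
    · exact absurd h n0
    · exact absurd h n'
  have hm1 : ¬ IsSquare (-1 : K) := by
    intro hi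
    obtain ⟨k, hk⟩ := hi.mul hsq
    refine q0 ?_
    have hs := hiso (x' + (k / β x0 x0) • x0)
      (by simp [hplane _ h', hplane _ h0]) (by
        simp [hxx, hD.symm x0 x']
        field_simp
        linear_combination -hk)
    have := congrArg (β x') hs
    rw [map_add, map_smul, hxx, smul_zero, add_zero, map_zero] at this
    exact absurd this q'
  obtain ⟨al, hal⟩ : ∃ al : K, al * al * β x' x' = -β z z := by
    obtain ⟨k, hk⟩ := hD.isSquare_mul hm1 n'
    refine ⟨k / β x' x', ?_⟩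
    field_simp
    linear_combination -hk
  have hal0 : al ≠ 0 := fun e => hz (by
    rw [e, zero_mul, zero_mul] at hal
    exact neg_eq_zero.1 hal.symm)
  obtain ⟨u, hud⟩ : ∃ u, u = al • x' + z := ⟨_, rfl⟩
  have huu : β u u = 0 := by
    simp [hud, hplane _ h', hD.symm z x']
    linear_combination hal
  have hx0u : β x0 u = 0 := by simp [hud, hD.symm x0 x', hxx, hplane _ h0]
  obtain ⟨lam, hlam⟩ : ∃ lam : K, lam = -2 / (al * β x' x') := ⟨_, rfl⟩
  obtain ⟨T, hT⟩ := hD.exists_isK huu (v := lam • x0) (by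
    rw [map_smul, hD.symm, hx0u, smul_zero])
  set g2 := g⁻¹ * T * g with hg2
  have hg2M : g2 ∈ M := M.mul_mem (M.mul_mem (M.inv_mem hg) ((hM.over hD).mem hT)) hg
  have hx'u : β x' u = al * β x' x' := by simp [hud, hplane _ h']
  have hT0 : ap T x0 = x0 - (lam * β x0 x0) • u := by
    rw [hT.2.2, hx0u, map_smul]; simp
  have hT1 : ap T (x0 + x') = x' - x0 := by
    rw [hT.2.2]
    simp only [map_add, map_smul, LinearMap.add_apply, LinearMap.smul_apply, smul_eq_mul, hx0u, hx'u,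
      hxx, zero_add, add_zero]
    rw [hlam]
    have := hD.twoK
    match_scalars <;> field_simp <;> ring
  have hTn : ap T x0 ∉ Img K a g := fun h => by
    have h' := hplane _ h
    rw [hT0, hud] at h'
    simp [hplane _ h0, hplane _ ‹x' ∈ Img K a g›, hz, q0] at h'
    refine (show lam ≠ 0 from ?_) h'
    rw [hlam]
    exact div_ne_zero (neg_ne_zero.2 hD.twoK) (mul_ne_zero hal0 q')
  obtain ⟨μ0, hμ0⟩ := mem_img.1 h0
  obtain ⟨μ', hμ'⟩ := mem_img.1 h'
  have hs2 : ap g2 ((μ0 + μ') • a) = (μ' - μ0) • a := by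
    rw [hg2, ap_mul, ap_mul, add_smul, ap_add, hμ0, hμ', hT1, ← hμ0, ← hμ', ← ap_sub, ap_inv_ap,
      sub_smul]
  have hne : (μ' - μ0) • a ≠ 0 := by
    refine smul_ne_zero (fun e => ?_) ha0
    rw [sub_eq_zero.1 e, hμ0] at hμ'
    exact q0 (by nth_rw 1 [hμ']; exact hxx)
  have hmove2 : ∃ μ : K, ∀ k : K, ap g2 (μ • a) ≠ k • ap g2 a := by
    by_contra hcon
    push Not at hcon
    obtain ⟨k, hk⟩ := hcon (μ0 + μ')
    rw [hs2] at hk
    have hk0 : k ≠ 0 := fun e => hne (by rw [hk, e, zero_smul])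
    obtain ⟨k', hk'⟩ := hcon μ0
    refine hTn ⟨k' / k * (μ' - μ0), ?_⟩
    rw [psi_apply, ← smul_smul, hk, smul_smul, div_mul_cancel₀ _ hk0, ← hk', hg2, ap_mul, ap_mul,
      ap_ap_inv, hμ0]
  obtain ⟨z2, hz2, hplane2, -⟩ := exists_axis hD hM hg2M ha ha0 hmove2 hR
  refine hR (rich_of_isotropic hD hM ha ha0 hg2M hmove2 hz2 hplane2 (s := (μ' - μ0) • a)
    (by simp [ha]) hne (hplane2 _ ⟨_, hs2⟩))

end CfsgLib.OrthExt
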